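-- A kernel-checkable search for solutions of the degree equation.
--
-- * `degBool n p e t lo R`: there is no solution with degrees in `[lo, R)` (and `n < R * R`)
-- * `false_of_degBool`
import Cfsg.Agent.EqLemmas

set_option autoImplicit false

namespace Cfsg.Agent.SmallOrders.BlockDegrees

/-- a solution: `x ≡ 1`, `y ≡ e (mod p)`, `1 + Σ x = y`, `1 + Σ x² + t y² ≤ n`, divisors of `n` -/
def DegSol (n p e t lo : ℕ) (X : Multiset ℤ) (y : ℤ) : Prop :=
  X.card + 1 = e ∧ (∀ x ∈ X, x.natAbs ∣ n ∧ lo ≤ x.natAbs ∧ x % p = 1) ∧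
    y.natAbs ∣ n ∧ lo ≤ y.natAbs ∧ y % p = (e : ℤ) % p ∧ 1 + X.sum = y ∧
    1 + (X.map fun x => x.natAbs ^ 2).sum + t * y.natAbs ^ 2 ≤ n

/-- the possible signed degrees -/
def degCand (n p lo R : ℕ) : List ℤ :=
  (List.range R).flatMap fun d =>
    if d ∣ n ∧ lo ≤ d then
      (if (d : ℤ) % p = 1 then [(d : ℤ)] else []) ++ (if -(d : ℤ) % p = 1 then [-(d : ℤ)] else [])
    else []

/-- the test at the end of a branch -/
def finalBool (n p e t lo : ℕ) (y : ℤ) (sq : ℕ) : Bool :=
  decide (y.natAbs ∣ n) && decide (lo ≤ y.natAbs) && decide (y % p = (e : ℤ) % p) &&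
    decide (sq + t * y.natAbs ^ 2 ≤ n)

/-- no way to complete the partial sums by `k` further terms from the list -/
def noSol (n p e t lo : ℕ) : List ℤ → ℕ → ℤ → ℕ → Bool
  | [], k, acc, sq => decide (k ≠ 0) || !finalBool n p e t lo acc sq
  | x :: xs, k, acc, sq =>
    (List.range (k + 1)).all fun j =>
      decide (n < sq + j * x.natAbs ^ 2) ||
        noSol n p e t lo xs (k - j) (acc + j * x) (sq + j * x.natAbs ^ 2)

/-- no solution -/
def degBool (n p e t lo R : ℕ) : Bool :=
  decide (n < R * R) && noSol n p e t lo (degCand n p lo R) (e - 1) 1 1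

theorem noSol_sound {n p e t lo : ℕ} : ∀ (xs : List ℤ) (k : ℕ) (acc : ℤ) (sq : ℕ),
    noSol n p e t lo xs k acc sq = true → ∀ X : Multiset ℤ, X.card = k → (∀ x ∈ X, x ∈ xs) →
      finalBool n p e t lo (acc + X.sum) (sq + (X.map fun x => x.natAbs ^ 2).sum) = false
  | [], k, acc, sq, h, X, hX, hmem => by
    obtain rfl : X = 0 := Multiset.eq_zero_of_forall_notMem fun x hx => by simpa using hmem x hx
    simp only [Multiset.card_zero] at hX
    subst hX
    simpa [noSol] using h
  | x :: xs, k, acc, sq, h, X, hX, hmem => by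
    simp only [noSol, List.all_eq_true, List.mem_range, Bool.or_eq_true, decide_eq_true_eq] at h
    set j := X.count x with hj
    have hsplit : Multiset.replicate j x + X.filter (fun z => ¬ z = x) = X := by
      rw [hj, ← Multiset.filter_eq']
      exact Multiset.filter_add_not (fun z => z = x) X
    set Y := X.filter (fun z => ¬ z = x) with hY
    have hcard : j + Y.card = k := by
      rw [← hX, ← hsplit]; simp
    rw [← hsplit, Multiset.sum_add, Multiset.sum_replicate, Multiset.map_add, Multiset.map_replicate,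
      Multiset.sum_add, Multiset.sum_replicate, nsmul_eq_mul, smul_eq_mul, ← add_assoc, ← add_assoc]
    rcases h j (by omega) with hbig | hrec
    · rw [Bool.eq_false_iff]
      intro hf
      simp only [finalBool, Bool.and_eq_true, decide_eq_true_eq] at hf
      have := hf.2
      omega
    · refine noSol_sound xs (k - j) _ _ hrec Y (by omega) fun z hz => ?_
      have hz' := Multiset.mem_filter.mp hz
      exact (List.mem_cons.mp (hmem z hz'.1)).resolve_left hz'.2

theorem false_of_degBool {n p e t lo R : ℕ} (h : degBool n p e t lo R = true) {X : Multiset ℤ} {y : ℤ}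
    (hs : DegSol n p e t lo X y) : False := by
  obtain ⟨hcard, hX, hy1, hy2, hy3, hsum, hsq⟩ := hs
  simp only [degBool, Bool.and_eq_true, decide_eq_true_eq] at h
  have hmem : ∀ x ∈ X, x ∈ degCand n p lo R := by
    intro x hx
    obtain ⟨h1, h2, h3⟩ := hX x hx
    have hlt : x.natAbs < R := by
      have : x.natAbs ^ 2 ≤ (X.map fun z => z.natAbs ^ 2).sum :=
        Multiset.le_sum_of_mem (Multiset.mem_map_of_mem (fun z : ℤ => z.natAbs ^ 2) hx)
      have h4 : x.natAbs * x.natAbs < R * R := by rw [← pow_two]; omega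
      exact Nat.mul_self_lt_mul_self_iff.mp h4
    refine List.mem_flatMap.mpr ⟨x.natAbs, List.mem_range.mpr hlt, ?_⟩
    rw [if_pos ⟨h1, h2⟩, List.mem_append]
    rcases Int.natAbs_eq x with e' | e'
    · left; rw [← e', if_pos h3]; exact List.mem_singleton.mpr rfl
    · right
      rw [show -((x.natAbs : ℕ) : ℤ) = x from e'.symm, if_pos h3]
      exact List.mem_singleton.mpr rfl
  have hf := noSol_sound _ _ _ _ h.2 X (by omega) hmem
  rw [hsum, Bool.eq_false_iff] at hf
  refine hf ?_
  simp only [finalBool, Bool.and_eq_true, decide_eq_true_eq]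
  exact ⟨⟨⟨hy1, hy2⟩, hy3⟩, hsq⟩

end Cfsg.Agent.SmallOrders.BlockDegrees
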