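-- A character that is constant on cosets of a commuting element of order prime to `p`.
--
-- * `eq_one_of_small_degree`: in a simple group its degree is at least `2 p`
import Cfsg.Agent.Lib.Char.Eigen
import Cfsg.Agent.Lib.Char.Inner
import Cfsg.Agent.Lib.Blocks.Defect

set_option autoImplicit false

namespace Cfsg.Agent.SmallOrders.BlockDegrees

open Cfsg Module

theorem geom_roots {z : ℂ} {m : ℕ} (hz : z ^ m = 1) :
    ∑ j ∈ Finset.range m, z ^ j = if z = 1 then (m : ℂ) else 0 := by
  by_cases h : z = 1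
  · simp [h]
  · rw [if_neg h, geom_sum_eq h, hz, sub_self, zero_div]

/-- Power sums of roots of unity determine the multiplicities. -/
theorem card_fiber_mul {ι : Type*} [Fintype ι] (B : ι → ℂ) {m : ℕ} (hm : m ≠ 0)
    (hB : ∀ i, B i ^ m = 1) {b : ℂ} (hb : b ^ m = 1) :
    ∑ l ∈ Finset.range m, (∑ i, B i ^ l) * b⁻¹ ^ l =
      (m : ℂ) * ((Finset.univ.filter fun i => B i = b).card : ℂ) := by
  classical
  simp_rw [Finset.sum_mul, ← mul_pow]
  rw [Finset.sum_comm]
  have hb0 : b ≠ 0 := fun e => by rw [e, zero_pow hm] at hb; exact zero_ne_one hb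
  rw [Finset.sum_congr rfl fun i _ => geom_roots (z := B i * b⁻¹) (m := m)
      (by rw [mul_pow, hB i, inv_pow, hb, inv_one, mul_one]),
    Finset.sum_ite, Finset.sum_const_zero, add_zero, Finset.sum_const, nsmul_eq_mul, mul_comm]
  congr 2
  refine congrArg Finset.card (Finset.filter_congr fun i _ => ?_)
  rw [mul_inv_eq_one₀ hb0]

variable {G : Type*} [Group G] [Finite G] [IsSimpleGroup G]

theorem eq_one_of_small_degree (hG : ¬ IsMulCommutative G) {p : ℕ} [Fact p.Prime] {χ : G → ℂ}
    (hχ : IsIrrCharacter G χ) (hne : χ ≠ 1) {x k : G} (hx : x ^ p = 1) (hcomm : Commute x k)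
    (hm : ¬ p ∣ orderOf k) (hd : charDegree χ < 2 * p)
    (hconst : ∀ j l : ℕ, ¬ p ∣ j → χ (x ^ j * k ^ l) = χ (x ^ j)) : k = 1 := by
  classical
  have hp : p.Prime := Fact.out
  obtain ⟨n, ρ, hirr, rfl⟩ := hχ
  have hn : charDegree ρ.character = n := by
    rw [charDegree, Representation.char_one, Module.finrank_fin_fun, Complex.natCast_re,
      Nat.floor_natCast]
  rw [hn] at hd
  set m := orderOf k with hmdef
  have hm0 : m ≠ 0 := (orderOf_pos k).ne'
  have hco : Nat.Coprime p m := hp.coprime_iff_not_dvd.mpr hm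
  obtain ⟨a, ha1, ha2⟩ := Nat.chineseRemainder hco 1 0
  obtain ⟨c, hc1, hc2⟩ := Nat.chineseRemainder hco 0 1
  set g := x * k with hg
  have hkm : k ^ m = 1 := pow_orderOf_eq_one k
  have hga : g ^ a = x := by
    rw [hg, hcomm.mul_pow, pow_eq_pow_mod a hx, ha1, pow_eq_pow_mod a hkm, ha2, Nat.zero_mod, pow_zero,
      mul_one, ← pow_eq_pow_mod 1 hx, pow_one]
  have hgc : g ^ c = k := by
    rw [hg, hcomm.mul_pow, pow_eq_pow_mod c hx, hc1, pow_eq_pow_mod c hkm, hc2, Nat.zero_mod, pow_zero,
      one_mul, ← pow_eq_pow_mod 1 hkm, pow_one]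
  obtain ⟨b, μ, hμ, hroot⟩ := Char.exists_eigenbasis ρ g
  let A : Fin (finrank ℂ (Fin n → ℂ)) → ℂ := fun i => μ i ^ a
  let B : Fin (finrank ℂ (Fin n → ℂ)) → ℂ := fun i => μ i ^ c
  have hroot' : ∀ i N, g ^ N = 1 → μ i ^ N = 1 := fun i N hN => by
    obtain ⟨q, hq⟩ := orderOf_dvd_of_pow_eq_one hN
    rw [hq, pow_mul, hroot, one_pow]
  have hAp : ∀ i, A i ^ p = 1 := fun i => by
    rw [← pow_mul]; exact hroot' i _ (by rw [pow_mul, hga, hx])
  have hBm : ∀ i, B i ^ m = 1 := fun i => by
    rw [← pow_mul]; exact hroot' i _ (by rw [pow_mul, hgc, hkm])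
  have hval : ∀ j l : ℕ, ρ.character (x ^ j * k ^ l) = ∑ i, A i ^ j * B i ^ l := fun j l => by
    rw [← hga, ← hgc, ← pow_mul, ← pow_mul, ← pow_add, Char.character_pow ρ g b μ hμ]
    simp only [A, B, ← pow_mul, ← pow_add]
  have hkey : ∀ (l : ℕ) (ζ : ℂ), ζ ^ p = 1 →
      (p : ℂ) * ∑ i ∈ Finset.univ.filter (fun i => A i = ζ), (B i ^ l - 1) = ∑ i, (B i ^ l - 1) := by
    intro l ζ hζ
    have hζ0 : ζ ≠ 0 := fun e => by rw [e, zero_pow hp.ne_zero] at hζ; exact zero_ne_one hζ
    calc (p : ℂ) * ∑ i ∈ Finset.univ.filter (fun i => A i = ζ), (B i ^ l - 1)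
        = ∑ i, (∑ j ∈ Finset.range p, (A i * ζ⁻¹) ^ j) * (B i ^ l - 1) := by
          rw [Finset.mul_sum, Finset.sum_filter]
          refine Finset.sum_congr rfl fun i _ => ?_
          rw [geom_roots (by rw [mul_pow, hAp, inv_pow, hζ, inv_one, mul_one]), ite_mul, zero_mul]
          simp only [mul_inv_eq_one₀ hζ0]
      _ = ∑ j ∈ Finset.range p, (ρ.character (x ^ j * k ^ l) - ρ.character (x ^ j * k ^ 0)) * ζ⁻¹ ^ j := by
          simp only [hval, Finset.sum_mul, ← Finset.sum_sub_distrib]
          rw [Finset.sum_comm]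
          refine Finset.sum_congr rfl fun j _ => Finset.sum_congr rfl fun i _ => ?_
          rw [pow_zero, mul_one, mul_pow]
          ring
      _ = (ρ.character (x ^ 0 * k ^ l) - ρ.character (x ^ 0 * k ^ 0)) * ζ⁻¹ ^ 0 := by
          refine Finset.sum_eq_single 0 (fun j hj hj0 => ?_) fun h => absurd (Finset.mem_range.mpr hp.pos) h
          have hpj : ¬ p ∣ j := fun h => by
            have := Nat.le_of_dvd (Nat.pos_of_ne_zero hj0) h
            have := Finset.mem_range.mp hj
            omega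
          rw [hconst j l hpj, hconst j 0 hpj, sub_self, zero_mul]
      _ = _ := by rw [hval, hval]; simp [Finset.sum_sub_distrib]
  have hn' : finrank ℂ (Fin n → ℂ) = n := Module.finrank_fin_fun ℂ
  have hcardn : Fintype.card (Fin (finrank ℂ (Fin n → ℂ))) = n := by rw [Fintype.card_fin, hn']
  have hnormB : ∀ i, ‖B i‖ = 1 := fun i => Complex.norm_eq_one_of_pow_eq_one (hBm i) hm0
  -- if the eigenvalues of `k` sum to `n` then `k` acts trivially
  have htriv : ∑ i, (B i - 1) = 0 → k = 1 := by
    intro h0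
    rw [Finset.sum_sub_distrib, sub_eq_zero] at h0
    have hB1 : ∀ i, B i = 1 := Char.eq_of_sum_eq_card_mul hnormB norm_one (by simpa using h0)
    have hk : ρ k = 1 := b.ext fun i => by
      have hp' : ∀ N : ℕ, ρ (g ^ N) (b i) = μ i ^ N • b i := by
        intro N
        induction N with
        | zero => simp
        | succ N ih =>
          rw [pow_succ, map_mul, Module.End.mul_apply, hμ i, map_smul, ih, smul_smul, pow_succ']
      rw [← hgc, hp', show μ i ^ c = 1 from hB1 i, one_smul]
      rfl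
    rcases (MonoidHom.normal_ker ρ).eq_bot_or_eq_top with hb | ht
    · exact (MonoidHom.ker_eq_bot_iff _).mp hb (hk.trans (map_one ρ).symm)
    · exfalso
      have := Fintype.ofFinite G
      have hall : ∀ y, ρ.character y = (n : ℂ) := fun y => by
        have hy : ρ y = 1 := MonoidHom.mem_ker.mp (ht ▸ Subgroup.mem_top y)
        rw [Representation.character, hy]
        simp
      have h1 := Char.classInner_irr_self (χ := ρ.character) ⟨n, ρ, hirr, rfl⟩
      rw [classInner] at h1
      simp only [hall, Complex.conj_natCast, Finset.sum_const, Finset.card_univ, nsmul_eq_mul,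
        ← Nat.card_eq_fintype_card] at h1
      rw [← mul_assoc, inv_mul_cancel₀ (Nat.cast_ne_zero.mpr Nat.card_pos.ne'), one_mul] at h1
      have hnn : n * n = 1 := by exact_mod_cast h1
      exact hne (funext fun y => by rw [hall y, Nat.eq_one_of_mul_eq_one_right hnn]; simp)
  -- a `p`-th root of unity with at most one eigenvector
  obtain ⟨ζ, hζ, hsmall⟩ : ∃ ζ : ℂ, ζ ^ p = 1 ∧ (Finset.univ.filter fun i => A i = ζ).card ≤ 1 := by
    by_contra! hbig
    have hprim := Complex.isPrimitiveRoot_exp p hp.ne_zero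
    set R := Finset.univ.image (fun j : Fin p => Complex.exp (2 * Real.pi * Complex.I / p) ^ (j : ℕ))
    have hR : R.card = p := by
      rw [Finset.card_image_of_injective _ fun i j hij => Fin.ext (hprim.pow_inj i.2 j.2 hij),
        Finset.card_univ, Fintype.card_fin]
    have h1 := Finset.sum_le_sum (s := R) (f := fun _ => 2)
      (g := fun ζ => (Finset.univ.filter fun i => A i = ζ).card) fun ζ hζ => by
      obtain ⟨j, -, rfl⟩ := Finset.mem_image.mp hζ
      exact hbig _ (by rw [pow_right_comm, hprim.pow_eq_one, one_pow])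
    rw [Finset.sum_const, smul_eq_mul, hR, ← Finset.card_biUnion (fun a _ b _ hab =>
      Finset.disjoint_left.mpr fun i hi hi' => hab ((Finset.mem_filter.mp hi).2.symm.trans
        (Finset.mem_filter.mp hi').2))] at h1
    have h2 := Finset.card_le_univ (R.biUnion fun ζ => Finset.univ.filter fun i => A i = ζ)
    rw [hcardn] at h2
    omega
  rcases Nat.lt_or_ge 0 (Finset.univ.filter fun i => A i = ζ).card with h0 | h0
  swap
  · refine htriv ?_
    have := hkey 1 ζ hζ
    rw [Finset.card_eq_zero.mp (Nat.le_zero.mp h0), Finset.sum_empty, mul_zero] at this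
    simpa using this.symm
  obtain ⟨i₀, hi₀⟩ := Finset.card_eq_one.mp (le_antisymm hsmall h0)
  set β := B i₀
  have hS : ∀ l : ℕ, ∑ i, B i ^ l = ((n : ℂ) - p) + p * β ^ l := fun l => by
    have := hkey l ζ hζ
    rw [hi₀, Finset.sum_singleton, Finset.sum_sub_distrib, Finset.sum_const, Finset.card_univ, hcardn,
      nsmul_eq_mul, mul_one] at this
    linear_combination -this
  by_cases hβ : β = 1
  · refine htriv ?_
    have := hS 1
    simp only [pow_one, hβ, mul_one, sub_add_cancel] at this
    rw [Finset.sum_sub_distrib, this]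
    simp [hn']
  exfalso
  have hβm : β ^ m = 1 := hBm i₀
  have hβ0 : β ≠ 0 := fun e => by rw [e, zero_pow hm0] at hβm; exact zero_ne_one hβm
  have hfib : ∀ {v : ℂ}, v ^ m = 1 → v ≠ 1 →
      ((Finset.univ.filter fun i => B i = v).card : ℂ) = if v = β then (p : ℂ) else 0 := by
    intro v hv hv1
    have hv0 : v ≠ 0 := fun e => by rw [e, zero_pow hm0] at hv; exact zero_ne_one hv
    have h1 := card_fiber_mul B hm0 hBm hv
    simp_rw [hS, add_mul, mul_assoc, ← mul_pow] at h1
    rw [Finset.sum_add_distrib, ← Finset.mul_sum, ← Finset.mul_sum,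
      geom_roots (show v⁻¹ ^ m = 1 by rw [inv_pow, hv, inv_one]), if_neg (fun e => hv1 (inv_eq_one.mp e)),
      geom_roots (show (β * v⁻¹) ^ m = 1 by rw [mul_pow, hβm, inv_pow, hv, inv_one, mul_one]),
      mul_zero, zero_add] at h1
    simp only [mul_inv_eq_one₀ hv0] at h1
    refine mul_left_cancel₀ (Nat.cast_ne_zero.mpr hm0) (h1.symm.trans ?_)
    by_cases e : β = v
    · rw [if_pos e, if_pos e.symm, mul_comm]
    · rw [if_neg e, if_neg (Ne.symm e), mul_zero, mul_zero]
  have hval01 : ∀ i, B i ≠ β → B i = 1 := fun i hi => by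
    by_contra h1
    have := hfib (hBm i) h1
    rw [if_neg hi, Nat.cast_eq_zero, Finset.card_eq_zero, Finset.eq_empty_iff_forall_notMem] at this
    exact this i (by simp)
  have hprod : ∏ i, B i = β ^ p := by
    have hc := hfib hβm hβ
    rw [if_pos rfl, Nat.cast_inj] at hc
    rw [← Finset.prod_filter_mul_prod_filter_not Finset.univ (fun i => B i = β),
      Finset.prod_congr rfl (fun i hi => (Finset.mem_filter.mp hi).2), Finset.prod_const, hc,
      Finset.prod_eq_one (fun i hi => hval01 i (Finset.mem_filter.mp hi).2), mul_one]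
  have hdet : LinearMap.det (ρ k) = ∏ i, B i := by
    have hp' : ∀ i, ρ k (b i) = B i • b i := fun i => by
      have h : ∀ N : ℕ, ρ (g ^ N) (b i) = μ i ^ N • b i := by
        intro N
        induction N with
        | zero => simp
        | succ N ih =>
          rw [pow_succ, map_mul, Module.End.mul_apply, hμ i, map_smul, ih, smul_smul, pow_succ']
      rw [← hgc]; exact h c
    rw [← LinearMap.det_toMatrix b, ← Matrix.det_diagonal]
    congr 1
    ext i j
    rw [LinearMap.toMatrix_apply, hp', map_smul, Finsupp.smul_apply, Basis.repr_self,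
      Finsupp.single_apply, Matrix.diagonal_apply, smul_eq_mul]
    by_cases e : i = j
    · subst e; simp
    · simp [e, Ne.symm e]
  have hdet1 : LinearMap.det (ρ k) = 1 := by
    let f : G →* ℂˣ := (LinearMap.det.comp ρ).toHomUnits
    rcases f.normal_ker.eq_bot_or_eq_top with hb | ht
    · exact absurd ⟨⟨fun u v => (MonoidHom.ker_eq_bot_iff _).mp hb
        (by rw [map_mul, map_mul, mul_comm])⟩⟩ hG
    · exact congrArg Units.val (MonoidHom.mem_ker.mp (ht ▸ Subgroup.mem_top k : k ∈ f.ker))
  have h1 : β ^ p = 1 := by rw [← hprod, ← hdet, hdet1]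
  exact hβ (by simpa [hco.gcd_eq_one] using pow_gcd_eq_one.mpr ⟨h1, hβm⟩)

end Cfsg.Agent.SmallOrders.BlockDegrees
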