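-- The principal block when `p` exactly divides `|G|`.
--
-- * `apply_pw_mul_principal`: its members are constant on the sections `x ^ i K`
-- * `sum_apply_pw_mul`: the others sum to zero over each section
-- * `two_p_le_degree`: for `K ≠ 1` a simple group has only large degrees in the principal block
import Cfsg.Agent.Lib.SmallOrders.BlockDegrees.Small
import Cfsg.Agent.Lib.CyclicDefect.Apply

set_option autoImplicit false

namespace Cfsg.Agent.SmallOrders.BlockDegrees

open Cfsg Cfsg.Agent.Blocks Cfsg.Agent.CyclicDefect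

variable {G : Type*} [Group G] [Finite G] {p : ℕ} [Fact p.Prime] {x : G} {L : Subgroup G}
  (hS : Setting p x L) {M : Ideal AlgInt} (hM : IsPModular p M)

include hS hM

theorem apply_pw_mul_principal {χ : IrrCharacter G} (hχ : χ ∈ principalBlock M G) {i : ZMod p}
    (hi : i ≠ 0) (k : K x L) :
    (χ : G → ℂ) (pw x i * ((k : L) : G)) = (χ : G → ℂ) (pw x i) := by
  classical
  have := Fintype.ofFinite (K x L)
  have := Fintype.ofFinite (IrrCharacter (K x L))
  have hB := (principal_isPBlock (G := G) hM).1
  obtain ⟨φ, hφ⟩ := Finset.card_eq_one.mp (card_lies_one hS hM)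
  have h1 : φ = oneK x L := by
    have : oneK x L ∈ Finset.univ.filter (Lies M x L (principalBlock M G)) := by
      simp [lies_principal hS hM]
    rw [hφ, Finset.mem_singleton] at this
    exact this.symm
  have key : ∀ k' : K x L, (χ : G → ℂ) (pw x i * ((k' : L) : G)) =
      dec (χ : G → ℂ) (oneK x L : K x L → ℂ) i := by
    intro k'
    rw [apply_pw_mul hS hM χ hi k', ← isPBlock_eq_blockOf hM hB hχ]
    have : ∀ (inst : DecidablePred (Lies M x L (principalBlock M G))),
        @Finset.filter _ (Lies M x L (principalBlock M G)) inst Finset.univ = {oneK x L} := fun inst => by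
      rw [← h1, ← hφ]
      congr!
    rw [this, Finset.sum_singleton, show (oneK x L : K x L → ℂ) k' = 1 from rfl, mul_one]
  have h0 := key 1
  rw [OneMemClass.coe_one, OneMemClass.coe_one, mul_one] at h0
  rw [key k, h0]

theorem sum_apply_pw_mul [Fintype (K x L)] {χ : IrrCharacter G} (hχ : χ ∉ principalBlock M G)
    {i : ZMod p} (hi : i ≠ 0) : ∑ k : K x L, (χ : G → ℂ) (pw x i * ((k : L) : G)) = 0 := by
  classical
  have := Fintype.ofFinite (IrrCharacter (K x L))
  simp_rw [apply_pw_mul hS hM χ hi]
  rw [Finset.sum_comm]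
  refine Finset.sum_eq_zero fun η hη => ?_
  rw [← Finset.mul_sum]
  have hne : (η : K x L → ℂ) ≠ (oneK x L : K x L → ℂ) := by
    intro e
    have hη' := (Finset.mem_filter.mp hη).2
    rw [Subtype.ext e] at hη'
    exact hχ (lies_unique hS hM ⟨χ, rfl⟩ (principal_isPBlock hM).1 hη' (lies_principal hS hM) ▸
      mem_blockOf_self hM χ)
  have h := Char.classInner_irr_of_ne η.2 (oneK x L).2 hne
  rw [classInner, mul_eq_zero] at h
  have h' := h.resolve_left (inv_ne_zero (Nat.cast_ne_zero.mpr Nat.card_pos.ne'))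
  simp only [oneK, Pi.one_apply, map_one, mul_one] at h'
  rw [h', mul_zero]

theorem two_p_le_degree [IsSimpleGroup G] (hG : ¬ IsMulCommutative G) {χ : IrrCharacter G}
    (hχ : χ ∈ principalBlock M G) (hne : (χ : G → ℂ) ≠ 1) (hK : 1 < Nat.card (K x L)) :
    2 * p ≤ charDegree (χ : G → ℂ) := by
  by_contra hd
  have : Nontrivial (K x L) := Finite.one_lt_card_iff_nontrivial.mp hK
  obtain ⟨k, hk⟩ := exists_ne (1 : K x L)
  refine hk (Subtype.ext (Subtype.ext (eq_one_of_small_degree hG χ.2 hne hS.pow_eq_one
    (hS.commute_K k) (hS.regular_K k) (not_le.mp hd) fun j l hj => ?_)))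
  have hi : ((j : ℕ) : ZMod p) ≠ 0 := by rwa [Ne, ZMod.natCast_eq_zero_iff]
  have := apply_pw_mul_principal hS hM hχ hi (k ^ l)
  rw [hS.pw_natCast] at this
  simpa using this

end Cfsg.Agent.SmallOrders.BlockDegrees
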