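-- The degree equation of the principal block.
--
-- * `exists_degSol`: `|C(x)| = p c` and `|N(⟨x⟩)| = p c e` give a solution
-- * `false_of_noSol`: so `degBool` excludes the configuration
import Cfsg.Agent.Lib.SmallOrders.BlockDegrees.Principal
import Cfsg.Agent.Lib.SmallOrders.BlockDegrees.Check
import Cfsg.Agent.Lib.CentralChar.Fixed

set_option autoImplicit false

namespace Cfsg.Agent.SmallOrders.BlockDegrees

open Cfsg Cfsg.Agent.Blocks Cfsg.Agent.CyclicDefect

variable {G : Type*} [Group G] [Finite G] [IsSimpleGroup G]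

theorem exists_degSol (hG : ¬ IsMulCommutative G) {p c e lo : ℕ} [Fact p.Prime] (hodd : p ≠ 2)
    {x : G} (hx : orderOf x = p) (hsq : ¬ p ^ 2 ∣ Nat.card G)
    (hC : Nat.card (Subgroup.centralizer ({x} : Set G)) = p * c)
    (hN : Nat.card (Subgroup.normalizer (Subgroup.zpowers x : Set G)) = p * c * e)
    (hlo : lo ≤ 2 ∨ (1 < c ∧ lo ≤ 2 * p)) :
    ∃ (X : Multiset ℤ) (y : ℤ), DegSol (Nat.card G) p e ((p - 1) / e) lo X y := by
  classical
  have hp : p.Prime := Fact.out
  obtain ⟨L, hS⟩ := exists_setting hp hx hsq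
  obtain ⟨M, hM⟩ := CentralChar.exists_pModular p
  have := hS.normal_K
  have := Fintype.ofFinite G
  have := Fintype.ofFinite (IrrCharacter G)
  have := Fintype.ofFinite (IrrCharacter (K x L))
  obtain ⟨hB, h1B⟩ := principal_isPBlock (G := G) hM
  set B := principalBlock M G with hBdef
  have hl := lies_principal hS hM
  set U' := U hS (oneK x L : K x L → ℂ) with hU'
  obtain ⟨hk, exc, ε, δ, hinj, hexcB, hε, hexc, hcst, hrel⟩ := block_structure hS hM hB hl
  rw [← hU'] at hk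
  have hcK : Nat.card (K x L) = c := Nat.eq_of_mul_eq_mul_left hp.pos (hS.card_centralizer.symm.trans hC)
  have hc0 : 0 < c := hcK ▸ Nat.card_pos
  have he : Nat.card U' = e := by
    rw [hU', card_U_one hS]
    have h1 := hS.card_normalizer.symm.trans hN
    rw [← (K x L).card_mul_index, hcK, mul_assoc] at h1
    exact Nat.eq_of_mul_eq_mul_left hc0 (Nat.eq_of_mul_eq_mul_left hp.pos h1)
  have he0 : 0 < e := he ▸ Nat.card_pos
  have hQ : Nat.card ((ZMod p)ˣ ⧸ U') = (p - 1) / e := by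
    rw [← card_units_eq hS (oneK x L : K x L → ℂ), ← hU', he, Nat.mul_div_cancel_left _ he0]
  -- degrees
  set d : IrrCharacter G → ℕ := fun χ => charDegree (χ : G → ℂ) with hd
  set one : IrrCharacter G := ⟨1, Char.isIrrCharacter_one⟩ with hone
  have hd1 : d one = 1 := by simp [hd, charDegree, hone]
  have hna : ∃ a b : G, a * b ≠ b * a := by
    by_contra! h
    exact hG ⟨⟨h⟩⟩
  have hlin : ∀ χ : IrrCharacter G, d χ = 1 → χ = one := fun χ h1 => by
    refine Subtype.ext ((eq_one_of_degree_one hna ?_).trans rfl)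
    rw [← charDegree_cast, show charDegree (χ : G → ℂ) = 1 from h1, Nat.cast_one]
  have hlo' : ∀ χ ∈ B, χ ≠ one → lo ≤ d χ := by
    intro χ hχ hne
    have hne' : (χ : G → ℂ) ≠ 1 := fun e' => hne (Subtype.ext e')
    have h1 : 1 ≤ d χ := charDegree_pos χ
    have h2 : d χ ≠ 1 := fun h => hne (hlin χ h)
    rcases hlo with h | ⟨hc1, h⟩
    · omega
    · exact h.trans (two_p_le_degree hS hM hG hχ hne' (by omega))
  have hp1 : ((p - 1 : ℕ) : ℤ) ≡ -1 [ZMOD p] :=
    Int.modEq_iff_dvd.mpr ⟨-1, by rw [Nat.cast_sub hp.one_le]; push_cast; ring⟩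
  have hcong : ∀ χ ∈ B, (d χ : ℤ) ≡ ∑ u : (ZMod p)ˣ, bInt hS χ (oneK x L) (u : ZMod p) [ZMOD p] := by
    intro χ hχ
    have h := memI_apply_one_sub hS hM hB hl hχ
    rw [card_lies_one hS hM, Nat.cast_one, one_mul, show (oneK x L : K x L → ℂ) 1 = 1 from rfl, one_mul,
      ← charDegree_cast, ← Int.cast_natCast (R := ℂ)] at h
    exact intModEq_of_memI hM h
  set F := Finset.univ.filter (fun χ => χ ∈ B ∧ χ ∉ Set.range exc) with hF
  have hmemF : ∀ χ, χ ∈ F ↔ χ ∈ B ∧ χ ∉ Set.range exc := fun χ => by simp [hF]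
  set c₀ : (ZMod p)ˣ ⧸ U' := ((1 : (ZMod p)ˣ) : (ZMod p)ˣ ⧸ U') with hc₀
  set sx : IrrCharacter G → ℤ := fun χ => -δ χ * (d χ : ℤ) with hsx
  have hsabs : ∀ χ ∈ F, (sx χ).natAbs = d χ := fun χ hχ => by
    obtain ⟨hχB, hχn⟩ := (hmemF χ).mp hχ
    rcases (hcst χ hχB hχn).1 with h | h <;> simp [hsx, h]
  have hsmod : ∀ χ ∈ F, sx χ % p = 1 := fun χ hχ => by
    obtain ⟨hχB, hχn⟩ := (hmemF χ).mp hχ
    obtain ⟨hdl, hrow⟩ := hcst χ hχB hχn
    have h := hcong χ hχB
    rw [sum_bInt_const hS hrow] at h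
    have h2 := (h.trans (hp1.mul_left (δ χ))).mul_left (-δ χ)
    have h3 : -δ χ * (δ χ * -1) = 1 := by rcases hdl with h' | h' <;> simp [h']
    rw [h3] at h2
    rw [hsx, h2.eq]
    exact Int.emod_eq_of_lt zero_le_one (by exact_mod_cast hp.one_lt)
  set y₀ : ℤ := ε * (d (exc c₀) : ℤ) with hy₀
  have hymod : y₀ ≡ (e : ℤ) [ZMOD p] := by
    have h := hcong _ (hexcB c₀)
    rw [sum_bInt_exc hS (hexc c₀), ← hU', he] at h
    have h2 := h.mul_left ε
    rwa [show ε * (ε * (e : ℤ)) = e by rcases hε with h' | h' <;> simp [h']] at h2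
  have hexcd : ∀ cc, d (exc cc) = d (exc c₀) := by
    intro cc
    have h1 : ¬ p ∣ orderOf (1 : G) := by simpa using hp.ne_one
    have h := (hrel 1 h1 cc).trans (hrel 1 h1 c₀).symm
    rw [add_left_cancel_iff] at h
    have h' : (exc cc : G → ℂ) 1 = (exc c₀ : G → ℂ) 1 :=
      mul_left_cancel₀ (Int.cast_ne_zero.mpr (by rcases hε with h' | h' <;> simp [h'])) h
    rw [← charDegree_cast, ← charDegree_cast] at h'
    exact_mod_cast h'
  have hsum : ∑ χ ∈ F, sx χ = y₀ := by
    have h := hrel 1 (by simpa using hp.ne_one) c₀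
    apply Int.cast_injective (α := ℂ)
    simp only [hsx, hy₀, hd]
    push_cast
    rw [← charDegree_cast] at h
    simp only [neg_mul, Finset.sum_neg_distrib]
    rw [neg_eq_iff_add_eq_zero, ← h]
    congr 1
    refine Finset.sum_congr (by ext χ; simp [hF]) fun χ _ => ?_
    rw [charDegree_cast]
  have hFcard : F.card = e := by
    have h1 : (Finset.univ.filter (· ∈ B)).card = e + (p - 1) / e := by
      rw [← hQ, ← he, ← hk, Nat.card_eq_fintype_card, ← Fintype.card_subtype]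
    have h2 : F = (Finset.univ.filter (· ∈ B)) \ Finset.univ.image exc := by
      ext χ; simp [hF]
    rw [h2, Finset.card_sdiff_of_subset (fun χ hχ => by
      obtain ⟨cc, -, rfl⟩ := Finset.mem_image.mp hχ
      simp [hexcB cc]), h1, Finset.card_image_of_injective _ hinj, Finset.card_univ,
      ← Nat.card_eq_fintype_card, hQ, Nat.add_sub_cancel]
  have hsqsum : ∑ χ ∈ F, (d χ) ^ 2 + (p - 1) / e * d (exc c₀) ^ 2 ≤ Nat.card G := by
    have h1 : ∑ χ : IrrCharacter G, d χ ^ 2 = Nat.card G := by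
      apply Nat.cast_injective (R := ℂ)
      rw [← Char.sum_sq_degrees (G := G)]
      push_cast
      exact Finset.sum_congr rfl fun χ _ => by rw [hd, charDegree_cast]
    rw [← h1, ← hQ, Nat.card_eq_fintype_card, ← Finset.card_univ]
    have h2 : (Finset.univ : Finset ((ZMod p)ˣ ⧸ U')).card * d (exc c₀) ^ 2 =
        ∑ χ ∈ Finset.univ.image exc, d χ ^ 2 := by
      rw [Finset.sum_image (fun a _ b _ h => hinj h), ← smul_eq_mul, ← Finset.sum_const]
      exact Finset.sum_congr rfl fun cc _ => by rw [hexcd cc]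
    rw [h2, ← Finset.sum_union (Finset.disjoint_left.mpr fun χ hχ hχ' => by
      obtain ⟨cc, -, rfl⟩ := Finset.mem_image.mp hχ'
      exact ((hmemF _).mp hχ).2 ⟨cc, rfl⟩)]
    exact Finset.sum_le_univ_sum_of_nonneg fun _ => Nat.zero_le _
  have hsxsq : ∀ S ⊆ F, ((S.val.map sx).map fun z => z.natAbs ^ 2).sum = ∑ χ ∈ S, d χ ^ 2 := fun S hS' => by
    rw [Multiset.map_map, Finset.sum_map_val]
    exact Finset.sum_congr rfl fun χ hχ => by rw [Function.comp_apply, hsabs χ (hS' hχ)]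
  by_cases hcase : one ∈ F
  · -- the principal character is not exceptional
    have hδ1 : sx one = 1 := by
      have h1 := hsmod one hcase
      obtain ⟨hχB, hχn⟩ := (hmemF one).mp hcase
      rcases (hcst one hχB hχn).1 with h | h
      · exfalso
        rw [hsx] at h1
        simp only [h, hd1] at h1
        have hd2 : (p : ℤ) ∣ 2 := by
          have := (Int.emod_emod_of_dvd (-1) (dvd_refl (p : ℤ)))
          have h2 : (-1 : ℤ) ≡ 1 [ZMOD p] := by
            unfold Int.ModEq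
            rw [show (-1 : ℤ) = -1 * ((1 : ℕ) : ℤ) by simp, h1]
            exact (Int.emod_eq_of_lt zero_le_one (by exact_mod_cast hp.one_lt)).symm
          simpa using Int.modEq_iff_dvd.mp h2
        exact hodd ((Nat.prime_dvd_prime_iff_eq hp Nat.prime_two).mp (by exact_mod_cast hd2))
      · simp [hsx, h, hd1]
    have hexne : exc c₀ ≠ one := fun e' => ((hmemF one).mp hcase).2 ⟨c₀, e'⟩
    refine ⟨(F.erase one).val.map sx, y₀, ?_, ?_, ?_, ?_, hymod, ?_, ?_⟩
    · rw [Multiset.card_map, ← Finset.card_def, Finset.card_erase_of_mem hcase, hFcard]; omega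
    · intro z hz
      obtain ⟨χ, hχ, rfl⟩ := Multiset.mem_map.mp hz
      obtain ⟨hne, hχF⟩ := Finset.mem_erase.mp hχ
      rw [hsabs χ hχF]
      exact ⟨charDegree_dvd_card χ, hlo' χ ((hmemF χ).mp hχF).1 hne, hsmod χ hχF⟩
    · rw [hy₀]; rcases hε with h | h <;> simpa [h] using charDegree_dvd_card (exc c₀)
    · rw [hy₀]; rcases hε with h | h <;> simpa [h] using hlo' _ (hexcB c₀) hexne
    · rw [Finset.sum_map_val, ← hδ1, Finset.add_sum_erase _ _ hcase, hsum]
    · rw [hsxsq _ (Finset.erase_subset _ _)]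
      have h3 := Finset.add_sum_erase _ (fun χ => d χ ^ 2) hcase
      simp only [hd1, one_pow] at h3
      rw [h3, show y₀.natAbs = d (exc c₀) by rw [hy₀]; rcases hε with h | h <;> simp [h]]
      exact hsqsum
  · -- the principal character is exceptional: there is only one such
    obtain ⟨c₁, hc₁⟩ : one ∈ Set.range exc := by
      by_contra hn
      exact hcase ((hmemF one).mpr ⟨h1B, hn⟩)
    have hd01 : d (exc c₀) = 1 := by rw [← hexcd c₁, hc₁, hd1]
    have ht : (p - 1) / e = 1 := by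
      rw [← hQ, Nat.card_eq_one_iff_unique]
      refine ⟨⟨fun a b => hinj ?_⟩, ⟨c₀⟩⟩
      rw [hlin _ ((hexcd a).trans hd01), hlin _ ((hexcd b).trans hd01)]
    have hep : e = p - 1 := by
      have h := card_units_eq hS (oneK x L : K x L → ℂ)
      rw [← hU', he, hQ, ht, mul_one] at h
      exact h
    have hy1 : y₀ = -1 := by
      have h2 := hymod.trans (hep ▸ hp1)
      rcases hε with h | h
      · exfalso
        rw [hy₀, h, hd01] at h2
        have h3 := Int.modEq_iff_dvd.mp h2.symm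
        have h4 : (p : ℤ) ∣ 2 := by simpa using h3
        exact hodd ((Nat.prime_dvd_prime_iff_eq hp Nat.prime_two).mp (by exact_mod_cast h4))
      · rw [hy₀, h, hd01]; rfl
    obtain ⟨χ₀, hχ₀⟩ := Finset.card_pos.mp (hFcard ▸ he0)
    have hne₀ : ∀ χ ∈ F, χ ≠ one := fun χ hχ e' => hcase (e' ▸ hχ)
    refine ⟨(F.erase χ₀).val.map sx, -sx χ₀, ?_, ?_, ?_, ?_, ?_, ?_, ?_⟩
    · rw [Multiset.card_map, ← Finset.card_def, Finset.card_erase_of_mem hχ₀, hFcard]; omega
    · intro z hz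
      obtain ⟨χ, hχ, rfl⟩ := Multiset.mem_map.mp hz
      have hχF := Finset.mem_of_mem_erase hχ
      rw [hsabs χ hχF]
      exact ⟨charDegree_dvd_card χ, hlo' χ ((hmemF χ).mp hχF).1 (hne₀ χ hχF), hsmod χ hχF⟩
    · rw [Int.natAbs_neg, hsabs χ₀ hχ₀]; exact charDegree_dvd_card χ₀
    · rw [Int.natAbs_neg, hsabs χ₀ hχ₀]; exact hlo' χ₀ ((hmemF χ₀).mp hχ₀).1 (hne₀ χ₀ hχ₀)
    · have h2 : sx χ₀ ≡ 1 [ZMOD p] :=
        (hsmod χ₀ hχ₀).trans (Int.emod_eq_of_lt zero_le_one (by exact_mod_cast hp.one_lt)).symm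
      exact h2.neg.trans (hep ▸ hp1).symm
    · rw [Finset.sum_map_val, eq_neg_iff_add_eq_zero, add_comm 1, add_right_comm,
        add_comm (∑ χ ∈ F.erase χ₀, sx χ), Finset.add_sum_erase _ _ hχ₀, hsum, hy1]
      norm_num
    · rw [hsxsq _ (Finset.erase_subset _ _), Int.natAbs_neg, hsabs χ₀ hχ₀, ht, one_mul, add_assoc,
        Finset.sum_erase_add _ _ hχ₀]
      rw [ht, hd01] at hsqsum
      omega

theorem false_of_degBool' (hG : ¬ IsMulCommutative G) {p c e lo : ℕ} (R : ℕ) [Fact p.Prime]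
    (hodd : p ≠ 2) {x : G} (hx : orderOf x = p) (hsq : ¬ p ^ 2 ∣ Nat.card G)
    (hC : Nat.card (Subgroup.centralizer ({x} : Set G)) = p * c)
    (hN : Nat.card (Subgroup.normalizer (Subgroup.zpowers x : Set G)) = p * c * e)
    (hlo : lo ≤ 2 ∨ (1 < c ∧ lo ≤ 2 * p))
    (h : degBool (Nat.card G) p e ((p - 1) / e) lo R = true) : False := by
  obtain ⟨X, y, hs⟩ := exists_degSol hG hodd hx hsq hC hN hlo
  exact false_of_degBool h hs

end Cfsg.Agent.SmallOrders.BlockDegrees
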