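-- Involutions and a self-centralising element of prime order with `|N| = 2 p`.
--
-- * `exists_formula`: `p X Y |C(t)|² = |G| (X - v)²` for the principal degrees `X`, `Y = 1 + X`
-- * all involutions are conjugate
import Cfsg.Agent.Lib.SmallOrders.BlockDegrees.Equation
import Cfsg.Agent.Lib.Char.ClassMult
import Cfsg.Agent.Lib.SmallOrders.Centralizer

set_option autoImplicit false

namespace Cfsg.Agent.SmallOrders.BlockDegrees

open Cfsg Cfsg.Agent.Blocks Cfsg.Agent.CyclicDefect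

variable {G : Type*} [Group G] [Finite G]

/-- values on involutions are integers -/
theorem exists_int_of_involution {χ : G → ℂ} (hχ : IsCharacter G χ) {t : G} (ht : t * t = 1) :
    ∃ v : ℤ, χ t = v ∧ v.natAbs ≤ charDegree χ := by
  obtain ⟨n, ρ, rfl⟩ := hχ
  obtain ⟨b, μ, hμ, hroot⟩ := Char.exists_eigenbasis ρ t
  have hsign : ∀ i, μ i = 1 ∨ μ i = -1 := fun i => by
    refine mul_self_eq_one_iff.mp ?_
    obtain ⟨q, hq⟩ : orderOf t ∣ 2 := orderOf_dvd_of_pow_eq_one (by rw [pow_two, ht])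
    rw [← pow_two, hq, pow_mul, hroot, one_pow]
  classical
  let s : Fin (Module.finrank ℂ (Fin n → ℂ)) → ℤ := fun i => if μ i = 1 then 1 else -1
  refine ⟨∑ i, s i, ?_, ?_⟩
  · rw [Char.character_eq_sum_eigenvalues ρ t b μ hμ, Int.cast_sum]
    refine Finset.sum_congr rfl fun i _ => ?_
    rcases hsign i with h | h
    · simp [s, h]
    · simp [s, h, show (-1 : ℂ) ≠ 1 by norm_num]
  · have hn : charDegree ρ.character = n := by
      rw [charDegree, Representation.char_one, Module.finrank_fin_fun, Complex.natCast_re,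
        Nat.floor_natCast]
    rw [hn]
    refine (Int.natAbs_sum_le _ _).trans ?_
    refine (Finset.sum_le_card_nsmul _ _ 1 fun i _ => ?_).trans ?_
    · simp only [s]; split_ifs <;> simp
    · simp

/-- an element with `|χ(t)| = χ(1)` is trivial in a simple group -/
theorem norm_lt_of_ne_one [IsSimpleGroup G] (hG : ¬ IsMulCommutative G) {χ : G → ℂ}
    (hχ : IsIrrCharacter G χ) (hne : χ ≠ 1) {t : G} (ht : t ≠ 1) :
    ‖χ t‖ < (charDegree χ : ℝ) := by
  obtain ⟨n, ρ, hirr, rfl⟩ := hχ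
  have hn : charDegree ρ.character = n := by
    rw [charDegree, Representation.char_one, Module.finrank_fin_fun, Complex.natCast_re,
      Nat.floor_natCast]
  rw [hn]
  have hle := Char.norm_character_le ρ t
  rw [Module.finrank_fin_fun] at hle
  refine lt_of_le_of_ne hle fun he => ?_
  obtain ⟨ω, hω⟩ := (Char.norm_character_eq_iff ρ t).mp (by rw [Module.finrank_fin_fun]; exact he)
  rcases (MonoidHom.normal_ker ρ).eq_bot_or_eq_top with hb | htop
  · refine ht ?_
    have hc : t ∈ Subgroup.center G := Subgroup.mem_center_iff.mpr fun g => by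
      refine (MonoidHom.ker_eq_bot_iff _).mp hb ?_
      rw [map_mul, map_mul, hω]
      ext v
      simp
    rwa [center_eq_bot hG, Subgroup.mem_bot] at hc
  · have := Fintype.ofFinite G
    have hall : ∀ y, ρ.character y = (n : ℂ) := fun y => by
      have hy : ρ y = 1 := MonoidHom.mem_ker.mp (htop ▸ Subgroup.mem_top y)
      rw [Representation.character, hy]
      simp
    have h1 := Char.classInner_irr_self (χ := ρ.character) ⟨n, ρ, hirr, rfl⟩
    rw [classInner] at h1
    simp only [hall, Complex.conj_natCast, Finset.sum_const, Finset.card_univ, nsmul_eq_mul,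
      ← Nat.card_eq_fintype_card] at h1
    rw [← mul_assoc, inv_mul_cancel₀ (Nat.cast_ne_zero.mpr Nat.card_pos.ne'), one_mul] at h1
    have hnn : n * n = 1 := by exact_mod_cast h1
    exact hne (funext fun y => by rw [hall y, Nat.eq_one_of_mul_eq_one_right hnn]; simp)

theorem exists_formula [IsSimpleGroup G] (hG : ¬ IsMulCommutative G) {p : ℕ} [Fact p.Prime]
    (hp5 : 5 ≤ p) {x : G} (hx : orderOf x = p) (hsq : ¬ p ^ 2 ∣ Nat.card G)
    (hC : Nat.card (Subgroup.centralizer ({x} : Set G)) = p)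
    (hN : Nat.card (Subgroup.normalizer (Subgroup.zpowers x : Set G)) = p * 2) :
    ∃ X Y : ℤ, DegSol (Nat.card G) p 2 ((p - 1) / 2) 2 {X} Y ∧
      (∀ t u : G, orderOf t = 2 → orderOf u = 2 → IsConj t u) ∧
      ∀ t : G, orderOf t = 2 → ∃ v : ℤ, v.natAbs < X.natAbs ∧
        (p : ℤ) * X * Y * (Nat.card (Subgroup.centralizer ({t} : Set G)) : ℤ) ^ 2 =
          (Nat.card G : ℤ) * (X - v) ^ 2 := by
  classical
  have hp : p.Prime := Fact.out
  obtain ⟨L, hS⟩ := exists_setting hp hx hsq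
  obtain ⟨M, hM⟩ := CentralChar.exists_pModular p
  have := hS.normal_K
  have := Fintype.ofFinite G
  have := Fintype.ofFinite (IrrCharacter G)
  have := Fintype.ofFinite (K x L)
  have := Fintype.ofFinite (IrrCharacter (K x L))
  obtain ⟨hB, h1B⟩ := principal_isPBlock (G := G) hM
  set B := principalBlock M G with hBdef
  have hl := lies_principal hS hM
  set U' := U hS (oneK x L : K x L → ℂ) with hU'
  obtain ⟨hk, exc, ε, δ, hinj, hexcB, hε, hexc, hcst, hrel⟩ := block_structure hS hM hB hl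
  rw [← hU'] at hk
  have hcK : Nat.card (K x L) = 1 :=
    Nat.eq_of_mul_eq_mul_left hp.pos (hS.card_centralizer.symm.trans (by rw [hC, mul_one]))
  have he : Nat.card U' = 2 := by
    rw [hU', card_U_one hS]
    have h1 := hS.card_normalizer.symm.trans hN
    rw [← (K x L).card_mul_index, hcK, one_mul] at h1
    exact Nat.eq_of_mul_eq_mul_left hp.pos h1
  have hQ : Nat.card ((ZMod p)ˣ ⧸ U') = (p - 1) / 2 := by
    rw [← card_units_eq hS (oneK x L : K x L → ℂ), ← hU', he, Nat.mul_div_cancel_left _ two_pos]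
  have hKs : Subsingleton (K x L) := (Finite.card_le_one_iff_subsingleton).mp hcK.le
  -- values at `x ^ i`
  have hval : ∀ χ ∈ B, ∀ i : ZMod p, i ≠ 0 → (χ : G → ℂ) (pw x i) =
      ∑ j : ZMod p, (bInt hS χ (oneK x L) j : ℂ) * ζ (i * j) := by
    intro χ hχ i hi
    rw [← dec_eq_sum_bInt hS χ (oneK x L) hi, dec_eq, classInner]
    have h1 : ∀ k : K x L, k = 1 := fun k => Subsingleton.elim k 1
    rw [Finset.sum_eq_single (1 : K x L) (fun k _ hk => absurd (h1 k) hk)
      (fun h => absurd (Finset.mem_univ _) h), hcK, Nat.cast_one, inv_one, one_mul,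
      OneMemClass.coe_one, OneMemClass.coe_one, mul_one, show (oneK x L : K x L → ℂ) 1 = 1 from rfl,
      map_one, mul_one]
  have hout : ∀ χ : IrrCharacter G, χ ∉ B → ∀ i : ZMod p, i ≠ 0 → (χ : G → ℂ) (pw x i) = 0 := by
    intro χ hχ i hi
    have h := sum_apply_pw_mul hS hM hχ hi
    rw [Finset.sum_eq_single (1 : K x L) (fun k _ hk => absurd (Subsingleton.elim k 1) hk)
      (fun h => absurd (Finset.mem_univ _) h)] at h
    simpa using h
  have hζsum : ∀ i : ZMod p, i ≠ 0 → ∀ c : ℂ,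
      ∑ j : ZMod p, (if j = 0 then 0 else c) * ζ (i * j) = -c := by
    intro i hi c
    have h0 : ∀ j : ZMod p, (if j = 0 then 0 else c) * ζ (i * j) =
        c * ζ (j * i) - (if j = 0 then c else 0) := fun j => by
      by_cases hj : j = 0
      · simp [hj, ζ_zero]
      · simp [hj, mul_comm i j]
    simp_rw [h0]
    rw [Finset.sum_sub_distrib, ← Finset.mul_sum, sum_ζ_mul, if_neg hi, mul_zero,
      Finset.sum_ite_eq' Finset.univ (0 : ZMod p) fun _ => c, if_pos (Finset.mem_univ _), zero_sub]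
  -- the members of the block
  set one : IrrCharacter G := ⟨1, Char.isIrrCharacter_one⟩ with hone
  have hd1 : charDegree (one : G → ℂ) = 1 := by simp [charDegree, hone]
  have hna : ∃ a b : G, a * b ≠ b * a := by
    by_contra! h
    exact hG ⟨⟨h⟩⟩
  have hlin : ∀ χ : IrrCharacter G, charDegree (χ : G → ℂ) = 1 → χ = one := fun χ h1 => by
    refine Subtype.ext ((eq_one_of_degree_one hna ?_).trans rfl)
    rw [← charDegree_cast, h1, Nat.cast_one]
  have hexcdeg : ∀ c c', (exc c : G → ℂ) 1 = (exc c' : G → ℂ) 1 := fun c c' => by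
    have h := (hrel 1 (by simpa using hp.ne_one) c).trans (hrel 1 (by simpa using hp.ne_one) c').symm
    rw [add_left_cancel_iff] at h
    exact mul_left_cancel₀ (Int.cast_ne_zero.mpr (by rcases hε with h' | h' <;> simp [h'])) h
  have hone_exc : ∀ c, exc c ≠ one := by
    intro c hc
    have h1 : ∀ c', exc c' = one := fun c' => hlin _ (by
      have h := hexcdeg c' c
      rw [hc, ← charDegree_cast, show (one : G → ℂ) 1 = 1 from rfl] at h
      exact_mod_cast h)
    have h2 : Nat.card ((ZMod p)ˣ ⧸ U') ≤ 1 :=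
      Finite.card_le_one_iff_subsingleton.mpr ⟨fun a b => hinj ((h1 a).trans (h1 b).symm)⟩
    rw [hQ] at h2
    omega
  have honer : one ∉ Set.range exc := fun ⟨c, hc⟩ => hone_exc c hc
  set F := Finset.univ.filter (fun χ => χ ∈ B ∧ χ ∉ Set.range exc) with hF
  have hFcard : F.card = 2 := by
    have h1 : (Finset.univ.filter (· ∈ B)).card = 2 + (p - 1) / 2 := by
      rw [← hQ, ← he, ← hk, Nat.card_eq_fintype_card, ← Fintype.card_subtype]
    have h2 : F = (Finset.univ.filter (· ∈ B)) \ Finset.univ.image exc := by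
      ext χ; simp [hF]
    rw [h2, Finset.card_sdiff_of_subset (fun χ hχ => by
      obtain ⟨cc, -, rfl⟩ := Finset.mem_image.mp hχ
      simp [hexcB cc]), h1, Finset.card_image_of_injective _ hinj, Finset.card_univ,
      ← Nat.card_eq_fintype_card, hQ, Nat.add_sub_cancel]
  obtain ⟨χ₁, hχ₁⟩ : ∃ χ₁, F.erase one = {χ₁} := by
    rw [← Finset.card_eq_one, Finset.card_erase_of_mem (Finset.mem_filter.mpr ⟨Finset.mem_univ _, h1B, honer⟩),
      hFcard]
  have hχ₁F : χ₁ ∈ F.erase one := hχ₁ ▸ Finset.mem_singleton_self _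
  obtain ⟨hχ₁ne, hχ₁F'⟩ := Finset.mem_erase.mp hχ₁F
  obtain ⟨hχ₁B, hχ₁n⟩ := (Finset.mem_filter.mp hχ₁F').2
  obtain ⟨hδ₁, hrow₁⟩ := hcst χ₁ hχ₁B hχ₁n
  obtain ⟨hδ0, hrow0⟩ := hcst one h1B honer
  have hFeq : F = {one, χ₁} := by
    have h1F : one ∈ F := Finset.mem_filter.mpr ⟨Finset.mem_univ one, h1B, honer⟩
    rw [← Finset.insert_erase h1F, hχ₁]
  have hnonexc : ∀ χ ∈ B, χ ∉ Set.range exc → ∀ i : ZMod p, i ≠ 0 →
      (χ : G → ℂ) (pw x i) = -(δ χ : ℂ) := by
    intro χ hχ hn i hi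
    rw [hval χ hχ i hi, ← hζsum i hi (δ χ)]
    refine Finset.sum_congr rfl fun j _ => ?_
    by_cases hj : j = 0
    · rw [hj, bInt_zero hS, Int.cast_zero, if_pos rfl]
    · rw [show j = ((Units.mk0 j hj : (ZMod p)ˣ) : ZMod p) from rfl, (hcst χ hχ hn).2, if_neg (Units.ne_zero _)]
  have hexcsum : ∀ i : ZMod p, i ≠ 0 → ∑ c, (exc c : G → ℂ) (pw x i) = -(ε : ℂ) := by
    intro i hi
    rw [Finset.sum_congr rfl fun c _ => hval _ (hexcB c) i hi, Finset.sum_comm, ← hζsum i hi ε]
    refine Finset.sum_congr rfl fun j _ => ?_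
    rw [← Finset.sum_mul]
    congr 1
    by_cases hj : j = 0
    · simp [hj, bInt_zero hS]
    · rw [if_neg hj, Finset.sum_congr rfl fun c _ => by
        rw [show j = ((Units.mk0 j hj : (ZMod p)ˣ) : ZMod p) from rfl, hexc c],
        ← Int.cast_sum, Finset.sum_ite_eq, if_pos (Finset.mem_univ _)]
  have hi1 : (1 : ZMod p) ≠ 0 := one_ne_zero
  have hδone : δ one = -1 := by
    have h := hnonexc one h1B honer 1 hi1
    rw [show (one : G → ℂ) (pw x (1 : ZMod p)) = 1 from rfl] at h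
    have h' : (1 : ℤ) = -δ one := by exact_mod_cast h
    omega
  set c₀ : (ZMod p)ˣ ⧸ U' := ((1 : (ZMod p)ˣ) : (ZMod p)ˣ ⧸ U') with hc₀
  set d₁ := charDegree (χ₁ : G → ℂ) with hd₁
  set D := charDegree (exc c₀ : G → ℂ) with hD
  set X : ℤ := -δ χ₁ * (d₁ : ℤ) with hXdef
  set Y : ℤ := ε * (D : ℤ) with hYdef
  have hrel' : ∀ g : G, ¬ p ∣ orderOf g → ∀ c,
      (ε : ℂ) * (exc c : G → ℂ) g = 1 - (δ χ₁ : ℂ) * (χ₁ : G → ℂ) g := by
    intro g hg c
    have h := hrel g hg c
    rw [Finset.sum_congr (s₂ := F) (by ext χ; simp [hF]) (fun _ _ => rfl), hFeq,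
      Finset.sum_pair hχ₁ne.symm, hδone] at h
    rw [show (one : G → ℂ) g = 1 from rfl] at h
    push_cast at h
    linear_combination h
  have hXY : Y = 1 + X := by
    have h := hrel' 1 (by simpa using hp.ne_one) c₀
    rw [← charDegree_cast, ← charDegree_cast, ← hd₁, ← hD] at h
    apply Int.cast_injective (α := ℂ)
    rw [hXdef, hYdef]
    push_cast
    linear_combination h
  have hXabs : X.natAbs = d₁ := by rcases hδ₁ with h | h <;> simp [hXdef, h]
  have hYabs : Y.natAbs = D := by rcases hε with h | h <;> simp [hYdef, h]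
  have hd₁2 : 2 ≤ d₁ := by
    have := charDegree_pos χ₁
    have : d₁ ≠ 1 := fun h => hχ₁ne (hlin _ h)
    omega
  have hD2 : 2 ≤ D := by
    have := charDegree_pos (exc c₀)
    have : D ≠ 1 := fun h => hone_exc c₀ (hlin _ h)
    omega
  have hp1 : ((p - 1 : ℕ) : ℤ) ≡ -1 [ZMOD p] :=
    Int.modEq_iff_dvd.mpr ⟨-1, by rw [Nat.cast_sub hp.one_le]; push_cast; ring⟩
  have hX1 : X ≡ 1 [ZMOD p] := by
    have h := memI_apply_one_sub hS hM hB hl hχ₁B
    rw [card_lies_one hS hM, Nat.cast_one, one_mul, show (oneK x L : K x L → ℂ) 1 = 1 from rfl, one_mul,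
      ← charDegree_cast, ← Int.cast_natCast (R := ℂ)] at h
    have h' := intModEq_of_memI hM h
    rw [sum_bInt_const hS hrow₁] at h'
    have h2 := (h'.trans (hp1.mul_left (δ χ₁))).mul_left (-δ χ₁)
    rwa [show -δ χ₁ * (δ χ₁ * -1) = 1 by rcases hδ₁ with h | h <;> simp [h]] at h2
  have hsq' : 1 + d₁ ^ 2 + (p - 1) / 2 * D ^ 2 ≤ Nat.card G := by
    have h1 : ∑ χ : IrrCharacter G, charDegree (χ : G → ℂ) ^ 2 = Nat.card G := by
      apply Nat.cast_injective (R := ℂ)
      rw [← Char.sum_sq_degrees (G := G)]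
      push_cast
      exact Finset.sum_congr rfl fun χ _ => by rw [charDegree_cast]
    rw [← h1, ← hQ, Nat.card_eq_fintype_card, ← Finset.card_univ]
    have h2 : (Finset.univ : Finset ((ZMod p)ˣ ⧸ U')).card * D ^ 2 =
        ∑ χ ∈ Finset.univ.image exc, charDegree (χ : G → ℂ) ^ 2 := by
      rw [Finset.sum_image (fun a _ b _ h => hinj h), ← smul_eq_mul, ← Finset.sum_const]
      refine Finset.sum_congr rfl fun cc _ => ?_
      have h := hexcdeg cc c₀
      rw [← charDegree_cast, ← charDegree_cast] at h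
      rw [hD, Nat.cast_injective h]
    have h3 : 1 + d₁ ^ 2 = ∑ χ ∈ F, charDegree (χ : G → ℂ) ^ 2 := by
      rw [hFeq, Finset.sum_pair hχ₁ne.symm, hd1, one_pow, hd₁]
    rw [h2, h3, ← Finset.sum_union (Finset.disjoint_left.mpr fun χ hχ hχ' => by
      obtain ⟨cc, -, rfl⟩ := Finset.mem_image.mp hχ'
      exact (Finset.mem_filter.mp hχ).2.2 ⟨cc, rfl⟩)]
    exact Finset.sum_le_univ_sum_of_nonneg fun _ => Nat.zero_le _
  -- an involution class and its inverting members
  set N := Subgroup.normalizer (Subgroup.zpowers x : Set G) with hNdef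
  set C := Subgroup.centralizer ({x} : Set G) with hCdef
  have hCzp : C = Subgroup.zpowers x := (Subgroup.eq_of_le_of_card_ge (zpowers_le_centralizer x)
    (by rw [hC, Nat.card_zpowers, hx])).symm
  have hCN : C ≤ N := hCzp ▸ Subgroup.le_normalizer
  have hidx : (C.subgroupOf N).index = 2 := by
    have h1 := (C.subgroupOf N).card_mul_index
    rw [Nat.card_congr (Subgroup.subgroupOfEquivOfLe hCN).toEquiv, hC, hN] at h1
    exact Nat.eq_of_mul_eq_mul_left hp.pos h1
  have hxpow : ∀ g : G, g ∈ Subgroup.zpowers x → g * g = 1 → g = 1 := by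
    intro g hg hgg
    have h1 : orderOf g ∣ p := hx ▸ orderOf_dvd_of_mem_zpowers hg
    have h2 : orderOf g ∣ 2 := orderOf_dvd_of_pow_eq_one (by rw [pow_two, hgg])
    have h3 := Nat.dvd_gcd h1 h2
    rw [show Nat.gcd p 2 = 1 from (Nat.coprime_primes hp Nat.prime_two).mpr (by omega), Nat.dvd_one,
      orderOf_eq_one_iff] at h3
    exact h3
  have key : ∀ t : G, orderOf t = 2 → ∃ v : ℤ, v.natAbs < X.natAbs ∧
      (p : ℤ) * X * Y * (Nat.card (Subgroup.centralizer ({t} : Set G)) : ℤ) ^ 2 =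
        (Nat.card G : ℤ) * (X - v) ^ 2 ∧ ∃ u : G, IsConj t u ∧ u ∈ N ∧ u ∉ C := by
    intro t ht
    have htt : t * t = 1 := by rw [← pow_two, ← ht, pow_orderOf_eq_one]
    have ht1 : t ≠ 1 := fun e => by rw [e, orderOf_one] at ht; omega
    have htreg : ¬ p ∣ orderOf t := fun h => by
      rw [ht] at h
      have := Nat.le_of_dvd two_pos h
      omega
    obtain ⟨v₁, hv₁, hv₁le⟩ := exists_int_of_involution (Char.IsIrrCharacter.isCharacter χ₁.2) htt
    have hv₁lt : v₁.natAbs < d₁ := by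
      have h := norm_lt_of_ne_one hG χ₁.2 (fun e => hχ₁ne (Subtype.ext e)) ht1
      rw [hv₁, Complex.norm_intCast, ← hd₁, ← Int.cast_abs, ← Int.cast_natCast (R := ℝ), Int.cast_lt,
        Int.abs_eq_natAbs] at h
      exact_mod_cast h
    set v : ℤ := -δ χ₁ * v₁ with hvdef
    have hvabs : v.natAbs < X.natAbs := by
      rw [hXabs]; rcases hδ₁ with h | h <;> simpa [hvdef, h] using hv₁lt
    set m := Nat.card {g : G // IsConj t g} with hm
    -- the number of pairs with product `x`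
    set Np := Nat.card {q : G × G // IsConj t q.1 ∧ IsConj t q.2 ∧ q.1 * q.2 = pw x (1 : ZMod p)} with hNp
    have hconj : ∀ q : G, IsConj t q → q * q = 1 ∧ q ≠ 1 := fun q hq => by
      obtain ⟨g, rfl⟩ := isConj_iff.mp hq
      refine ⟨by rw [show g * t * g⁻¹ * (g * t * g⁻¹) = g * (t * t) * g⁻¹ by group, htt, mul_one,
        mul_inv_cancel], fun e => ht1 ?_⟩
      calc t = g⁻¹ * (g * t * g⁻¹) * g := by group
        _ = 1 := by rw [e]; group
    have hform := Char.class_mult_formula t t (pw x (1 : ZMod p))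
    rw [← hm, ← hNp] at hform
    have hsum : ∑ χ : IrrCharacter G, (χ : G → ℂ) t * (χ : G → ℂ) t *
        (starRingEnd ℂ) ((χ : G → ℂ) (pw x (1 : ZMod p))) / (χ : G → ℂ) 1 =
        1 + (v : ℂ) ^ 2 / (X : ℂ) - (1 + (v : ℂ)) ^ 2 / (Y : ℂ) := by
      rw [← Finset.sum_filter_add_sum_filter_not Finset.univ (fun χ => χ ∈ B),
        Finset.sum_eq_zero (s := Finset.univ.filter fun χ => χ ∉ B) fun χ hχ => by
          rw [hout χ (Finset.mem_filter.mp hχ).2 1 hi1, map_zero, mul_zero, zero_div],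
        add_zero, show Finset.univ.filter (fun χ => χ ∈ B) = F ∪ Finset.univ.image exc by
          ext χ
          simp only [hF, Finset.mem_filter, Finset.mem_univ, true_and, Finset.mem_union,
            Finset.mem_image, Set.mem_range]
          by_cases hr : ∃ c, exc c = χ
          · obtain ⟨c, rfl⟩ := hr; simp [hexcB c]
          · simp only [hr, not_false_iff, and_true, or_false],
        Finset.sum_union (Finset.disjoint_left.mpr fun χ hχ hχ' => by
          obtain ⟨cc, -, rfl⟩ := Finset.mem_image.mp hχ'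
          exact (Finset.mem_filter.mp hχ).2.2 ⟨cc, rfl⟩),
        hFeq, Finset.sum_pair hχ₁ne.symm, Finset.sum_image (fun a _ b _ h => hinj h),
        hnonexc χ₁ hχ₁B hχ₁n 1 hi1]
      have hth : ∀ c, (exc c : G → ℂ) t = (ε : ℂ) * (1 + (v : ℂ)) := fun c => by
        have h := hrel' t htreg c
        rw [hv₁] at h
        have hεε : (ε : ℂ) * ε = 1 := by rcases hε with h' | h' <;> simp [h']
        calc (exc c : G → ℂ) t = (ε : ℂ) * ((ε : ℂ) * (exc c : G → ℂ) t) := by
              rw [← mul_assoc, hεε, one_mul]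
          _ = _ := by rw [h, hvdef]; push_cast; ring
      have hthD : ∀ c, (exc c : G → ℂ) 1 = (D : ℂ) := fun c => by
        rw [hexcdeg c c₀, hD, charDegree_cast]
      have e1 : ∀ c, (exc c : G → ℂ) t * (exc c : G → ℂ) t *
          (starRingEnd ℂ) ((exc c : G → ℂ) (pw x (1 : ZMod p))) / (exc c : G → ℂ) 1 =
          (1 + (v : ℂ)) ^ 2 / (D : ℂ) * (starRingEnd ℂ) ((exc c : G → ℂ) (pw x (1 : ZMod p))) := fun c => by
        have hεε : (ε : ℂ) * ε = 1 := by rcases hε with h' | h' <;> simp [h']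
        rw [hth c, hthD c]
        linear_combination ((1 + (v : ℂ)) ^ 2 / (D : ℂ) *
          (starRingEnd ℂ) ((exc c : G → ℂ) (pw x (1 : ZMod p)))) * hεε
      rw [Finset.sum_congr rfl fun c _ => e1 c, ← Finset.mul_sum, ← map_sum, hexcsum 1 hi1]
      simp only [hone, Pi.one_apply, map_one, mul_one, div_one, map_neg, map_intCast]
      rw [hv₁, ← charDegree_cast, ← hd₁]
      have hd₁0 : (d₁ : ℂ) ≠ 0 := Nat.cast_ne_zero.mpr (by omega)
      have hD0 : (D : ℂ) ≠ 0 := Nat.cast_ne_zero.mpr (by omega)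
      rw [hvdef, hXdef, hYdef]
      rcases hδ₁ with h | h <;> rcases hε with h' | h' <;> rw [h, h'] <;> push_cast <;>
        field_simp <;> ring
    rw [hsum] at hform
    have hX0 : (X : ℂ) ≠ 0 := Int.cast_ne_zero.mpr (by omega)
    have hY0 : (Y : ℂ) ≠ 0 := Int.cast_ne_zero.mpr (by omega)
    have hg0 : (Nat.card G : ℂ) ≠ 0 := Nat.cast_ne_zero.mpr Nat.card_pos.ne'
    have hmain : (Np : ℤ) * (Nat.card G : ℤ) * X * Y = (m : ℤ) ^ 2 * (X - v) ^ 2 := by
      apply Int.cast_injective (α := ℂ)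
      push_cast
      rw [hform]
      have hYC : (Y : ℂ) = 1 + (X : ℂ) := by rw [hXY]; push_cast; ring
      field_simp
      rw [hYC]
      ring
    have hXv : X - v ≠ 0 := fun e => by
      have : X.natAbs = v.natAbs := by rw [sub_eq_zero.mp e]
      omega
    have hm0 : 0 < m := by
      have : Nonempty {g : G // IsConj t g} := ⟨⟨t, IsConj.refl t⟩⟩
      exact Nat.card_pos
    -- the inverting conjugates
    have hNp0 : Np ≠ 0 := fun e => by
      rw [e] at hmain
      simp only [Nat.cast_zero, zero_mul] at hmain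
      rcases mul_eq_zero.mp hmain.symm with h | h
      · simp at h; omega
      · exact hXv (pow_eq_zero_iff two_ne_zero |>.mp h)
    have hsplit : ∀ q : G × G, IsConj t q.1 → IsConj t q.2 → q.1 * q.2 = pw x (1 : ZMod p) →
        q.1 ∈ N ∧ q.1 ∉ C := by
      rintro ⟨a, b⟩ ha hb hab
      rw [hS.pw_one] at hab
      obtain ⟨haa, ha1⟩ := hconj a ha
      obtain ⟨hbb, -⟩ := hconj b hb
      have hai : a⁻¹ = a := inv_eq_of_mul_eq_one_right haa
      have hinv : a * x * a⁻¹ = x⁻¹ := by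
        show a * x * a⁻¹ = x⁻¹
        have hab' : a * b = x := hab
        rw [← hab', hai, mul_inv_rev, hai, inv_eq_of_mul_eq_one_right hbb, ← mul_assoc, haa, one_mul]
      have hpow : ∀ g ∈ Subgroup.zpowers x, a * g * a⁻¹ ∈ Subgroup.zpowers x := by
        rintro g ⟨n, rfl⟩
        show a * x ^ n * a⁻¹ ∈ _
        rw [← conj_zpow, hinv]
        exact zpow_mem (inv_mem (Subgroup.mem_zpowers x)) n
      refine ⟨Subgroup.mem_normalizer_iff.mpr fun g => ⟨hpow g, fun hg => ?_⟩, fun hc => ?_⟩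
      · have h := hpow _ hg
        rwa [hai, show a * (a * g * a) * a = (a * a) * g * (a * a) by group, haa, one_mul, mul_one] at h
      exact ha1 (hxpow a (hCzp ▸ hc) haa)
    obtain ⟨⟨⟨u, w⟩, hu, hw, huw⟩⟩ := (Nat.card_pos_iff.mp (Nat.pos_of_ne_zero hNp0)).1
    obtain ⟨huN, huC⟩ := hsplit (u, w) hu hw huw
    have huu : u * u = 1 := (hconj u hu).1
    have hinvu : u * x * u⁻¹ = x⁻¹ := by
      have hai : u⁻¹ = u := inv_eq_of_mul_eq_one_right huu
      have huw' : u * w = x := by rw [← hS.pw_one (p := p)]; exact huw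
      rw [← huw', hai, mul_inv_rev, hai, inv_eq_of_mul_eq_one_right (hconj w hw).1, ← mul_assoc, huu,
        one_mul]
    have hinvz : ∀ j : ℤ, u * x ^ j * u⁻¹ = x ^ (-j) := fun j => by
      rw [← conj_zpow, hinvu, inv_zpow, zpow_neg]
    -- exactly `p` of them
    obtain ⟨h2, hh2⟩ : ∃ h2 : ℤ, (p : ℤ) = 2 * h2 + 1 := by
      obtain ⟨k, hk⟩ := hp.odd_of_ne_two (by omega)
      exact ⟨k, by omega⟩
    have hxp : x ^ (p : ℤ) = 1 := by rw [zpow_natCast, hS.pow_eq_one]
    have hclass : ∀ j : ℤ, IsConj t (u * x ^ j) := fun j => by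
      refine hu.trans (isConj_iff.mpr ⟨x ^ (h2 * j), ?_⟩)
      have hj2 : x ^ (-(h2 * j) - h2 * j) = x ^ j := by
        rw [show -(h2 * j) - h2 * j = j + (p : ℤ) * (-j) by rw [hh2]; ring, zpow_add, zpow_mul, hxp,
          one_zpow, mul_one]
      calc x ^ (h2 * j) * u * (x ^ (h2 * j))⁻¹
          = u * (u * x ^ (h2 * j) * u⁻¹) * (x ^ (h2 * j))⁻¹ := by
            rw [show u * (u * x ^ (h2 * j) * u⁻¹) = (u * u) * x ^ (h2 * j) * u⁻¹ by group, huu, one_mul,
              inv_eq_of_mul_eq_one_right huu]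
        _ = u * x ^ j := by rw [hinvz, mul_assoc, ← zpow_neg, ← zpow_add, ← sub_eq_add_neg, hj2]
    have hNpp : Np = p := by
      refine (Nat.card_congr (Equiv.ofBijective
        (fun q : {q : G × G // IsConj t q.1 ∧ IsConj t q.2 ∧ q.1 * q.2 = pw x (1 : ZMod p)} =>
          (⟨u⁻¹ * q.1.1, ?_⟩ : C)) ⟨?_, ?_⟩)).trans hC
      · obtain ⟨ha, hb⟩ := hsplit q.1 q.2.1 q.2.2.1 q.2.2.2
        have := (Subgroup.mul_mem_iff_of_index_two hidx (a := (⟨u, huN⟩ : N)⁻¹) (b := ⟨q.1.1, ha⟩)).mpr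
          (by rw [inv_mem_iff, Subgroup.mem_subgroupOf, Subgroup.mem_subgroupOf]
              exact iff_of_false huC hb)
        exact this
      · intro q q' heq
        obtain ⟨⟨a, b⟩, hq1, hq2, hab⟩ := q
        obtain ⟨⟨a', b'⟩, hq1', hq2', hab'⟩ := q'
        have ea : a = a' := mul_left_cancel (show u⁻¹ * a = u⁻¹ * a' from Subtype.ext_iff.mp heq)
        subst ea
        obtain rfl : b = b' := mul_left_cancel (hab.trans hab'.symm)
        rfl
      · rintro ⟨c, hc⟩
        obtain ⟨j, rfl⟩ := Subgroup.mem_zpowers_iff.mp (hCzp ▸ hc)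
        have h1 := hclass j
        refine ⟨⟨(u * x ^ j, u * x ^ j * x), h1, ?_, ?_⟩, Subtype.ext (inv_mul_cancel_left u _)⟩
        · rw [mul_assoc, ← zpow_add_one]; exact hclass _
        · show u * x ^ j * (u * x ^ j * x) = _
          rw [← mul_assoc, (hconj _ h1).1, one_mul, hS.pw_one]
    refine ⟨v, hvabs, ?_, u, hu, huN, huC⟩
    have hmC : (m : ℤ) * (Nat.card (Subgroup.centralizer ({t} : Set G)) : ℤ) = (Nat.card G : ℤ) := by
      exact_mod_cast Char.card_conjugates_mul_card_centralizer t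
    rw [hNpp] at hmain
    have hm' : (m : ℤ) ≠ 0 := by exact_mod_cast hm0.ne'
    refine mul_left_cancel₀ (pow_ne_zero 2 hm') ?_
    rw [← hmC] at hmain ⊢
    linear_combination ((m : ℤ) * (Nat.card (Subgroup.centralizer ({t} : Set G)) : ℤ)) * hmain
  refine ⟨X, Y, ⟨rfl, ?_, ?_, ?_, ?_, ?_, ?_⟩, ?_, fun t ht => ?_⟩
  · intro z hz
    rw [Multiset.mem_singleton] at hz
    subst hz
    rw [hXabs]
    exact ⟨charDegree_dvd_card χ₁, hd₁2,
      hX1.eq.trans (Int.emod_eq_of_lt zero_le_one (by exact_mod_cast hp.one_lt))⟩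
  · rw [hYabs]; exact charDegree_dvd_card _
  · rw [hYabs]; exact hD2
  · rw [hXY]
    exact (hX1.add_left 1).eq.trans (by norm_num)
  · rw [Multiset.sum_singleton, hXY]
  · rw [Multiset.map_singleton, Multiset.sum_singleton, hXabs, hYabs]
    exact hsq'
  · intro t t' ht ht'
    obtain ⟨-, -, -, u, hu, huN, huC⟩ := key t ht
    obtain ⟨-, -, -, u', hu', huN', huC'⟩ := key t' ht'
    have huu : u * u = 1 := by
      obtain ⟨g, rfl⟩ := isConj_iff.mp hu
      rw [show g * t * g⁻¹ * (g * t * g⁻¹) = g * t ^ 2 * g⁻¹ by rw [pow_two]; group, ← ht,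
        pow_orderOf_eq_one, mul_one, mul_inv_cancel]
    have hmem : u⁻¹ * u' ∈ C := by
      have := (Subgroup.mul_mem_iff_of_index_two hidx (a := (⟨u, huN⟩ : N)⁻¹) (b := ⟨u', huN'⟩)).mpr
        (by rw [inv_mem_iff, Subgroup.mem_subgroupOf, Subgroup.mem_subgroupOf]
            exact iff_of_false huC huC')
      exact this
    have huu' : u' * u' = 1 := by
      obtain ⟨g, rfl⟩ := isConj_iff.mp hu'
      rw [show g * t' * g⁻¹ * (g * t' * g⁻¹) = g * t' ^ 2 * g⁻¹ by rw [pow_two]; group, ← ht',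
        pow_orderOf_eq_one, mul_one, mul_inv_cancel]
    obtain ⟨j, hj⟩ := Subgroup.mem_zpowers_iff.mp (hCzp ▸ hmem)
    have hu'eq : u' = u * x ^ j := by rw [hj, mul_inv_cancel_left]
    have hinv : u * x ^ j * u⁻¹ = (x ^ j)⁻¹ := by
      rw [inv_eq_of_mul_eq_one_right huu]
      rw [hu'eq, ← mul_assoc] at huu'
      exact eq_inv_of_mul_eq_one_left huu'
    obtain ⟨k, hk⟩ := hp.odd_of_ne_two (by omega)
    refine hu.trans ((isConj_iff.mpr ⟨(x ^ j) ^ k, ?_⟩).trans hu'.symm)
    have hinvk : u * (x ^ j) ^ k * u⁻¹ = ((x ^ j) ^ k)⁻¹ := by rw [← conj_pow, hinv, inv_pow]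
    have hxp : (x ^ j) ^ p = 1 := by
      rw [← zpow_natCast, ← zpow_mul, mul_comm, zpow_mul, zpow_natCast, hS.pow_eq_one, one_zpow]
    calc (x ^ j) ^ k * u * ((x ^ j) ^ k)⁻¹
        = u * (u * (x ^ j) ^ k * u⁻¹) * ((x ^ j) ^ k)⁻¹ := by
          rw [show u * (u * (x ^ j) ^ k * u⁻¹) = (u * u) * (x ^ j) ^ k * u⁻¹ by group, huu, one_mul,
            inv_eq_of_mul_eq_one_right huu]
      _ = u * x ^ j := by
        rw [hinvk, mul_assoc, ← mul_inv_rev, ← pow_add, ← two_mul]
        congr 1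
        refine inv_eq_of_mul_eq_one_right ?_
        rw [← pow_succ, ← hk, hxp]
      _ = u' := hu'eq.symm
  · obtain ⟨v, h1, h2, -⟩ := key t ht
    exact ⟨v, h1, h2⟩

end Cfsg.Agent.SmallOrders.BlockDegrees
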