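-- The degree equation as a criterion on the order.
--
-- * `mem_of_blockBool`: `(n_p, |N(P) : C(P)|) ∈ L` when `blockBool n p R L` holds
-- * `card_ne_of_blockBool`: no simple group of order `n` when `blockBool n p R []` holds
import Cfsg.Agent.Lib.SmallOrders.BlockDegrees.Equation
import Cfsg.Agent.Lib.SmallOrders.Check2
import Cfsg.Agent.Lib.SmallOrders.Count

set_option autoImplicit false

namespace Cfsg.Agent.SmallOrders.BlockDegrees

/-- `d` Sylow subgroups with `|N : C| = j` have no degree equation -/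
def configBool (n p R d j : ℕ) : Bool :=
  decide (j < 2) || decide (¬ j ∣ p - 1) || decide (¬ p * j ∣ n / d) ||
    (decide ((d - 1) / p ≤ 30) && decide (¬ n / d / (p * j) ∣ altCard ((d - 1) / p))) ||
    degBool n p j ((p - 1) / j) (if 1 < n / d / (p * j) then 2 * p else 2) R

/-- all configurations outside `L` are impossible -/
def blockBool (n p R : ℕ) (L : List (ℕ × ℕ)) : Bool :=
  primeBool p && decide (p ≠ 2) && decide (p ∣ n) && decide (¬ p ∣ n / p) &&
    (List.range (n / p / p + 1)).all (fun k =>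
      decide (k = 0) || decide (¬ (k * p + 1) ∣ n / p) || badCand n p 1 (n / p) (k * p + 1) ||
        (List.range p).all (fun j => L.contains (k * p + 1, j) || configBool n p R (k * p + 1) j))

variable {G : Type*} [Group G] [Finite G] [IsSimpleGroup G]

theorem mem_of_blockBool (hG : ¬ IsMulCommutative G) {n : ℕ} (hn : Nat.card G = n) (p R : ℕ)
    (L : List (ℕ × ℕ)) [Fact p.Prime] (h : blockBool n p R L = true) :
    ∃ (x : G) (j : ℕ), (Nat.card (Sylow p G), j) ∈ L ∧ orderOf x = p ∧
      Nat.card (Subgroup.normalizer (Subgroup.zpowers x : Set G)) * Nat.card (Sylow p G) = n ∧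
      Nat.card (Subgroup.centralizer ({x} : Set G)) * j =
        Nat.card (Subgroup.normalizer (Subgroup.zpowers x : Set G)) := by
  simp only [blockBool, Bool.and_eq_true, decide_eq_true_eq, List.all_eq_true, List.mem_range,
    Bool.or_eq_true, List.contains_iff_mem] at h
  obtain ⟨⟨⟨⟨-, hodd⟩, hpn⟩, hm⟩, hall⟩ := h
  have hp : p.Prime := Fact.out
  set m := n / p with hmdef
  have hfac : Nat.card G = p ^ 1 * m := by rw [hn, hmdef, pow_one, Nat.mul_div_cancel' hpn]
  have hP : ∀ P : Sylow p G, Nat.card (P : Subgroup G) = p := fun P => by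
    rw [card_sylow_subgroup hfac hm P, pow_one]
  have hpG : p ∣ Nat.card G := hn ▸ hpn
  have hsq : ¬ p ^ 2 ∣ Nat.card G := by
    rw [hfac, pow_one, pow_two]
    exact fun h2 => hm (Nat.dvd_of_mul_dvd_mul_left hp.pos h2)
  obtain ⟨x, hx⟩ := exists_prime_orderOf_dvd_card' (G := G) p hpG
  obtain ⟨P, hPx⟩ := exists_sylow_eq_zpowers hP hx
  obtain ⟨j, hj1, hjp, hCj, hpC, -⟩ := exists_card_centralizer_mul hG hx P hPx
  have hNd := card_normalizer_mul_card_sylow P
  rw [hPx, hn] at hNd
  rw [hPx] at hCj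
  set d := Nat.card (Sylow p G) with hddef
  refine ⟨x, j, ?_, hx, hNd, hCj⟩
  have hmpos : 0 < m := Nat.pos_of_ne_zero fun h0 => hm (h0 ▸ dvd_zero p)
  have hdm : d ∣ m := index_sylow hfac hm P ▸ P.card_dvd_index
  have hone := one_lt_card_sylow hG hpG
  have hmod : d ≡ 1 [MOD p] := card_sylow_modEq_one p G
  unfold Nat.ModEq at hmod
  rw [Nat.one_mod_eq_one.mpr hp.ne_one] at hmod
  have hd := Nat.div_add_mod' d p
  rw [hmod] at hd
  have hle : d / p < m / p + 1 :=
    Nat.lt_succ_of_le (Nat.div_le_div_right (Nat.le_of_dvd hmpos hdm))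
  rcases hall _ hle with ((h0 | h0) | h0) | h0
  · exfalso; rw [h0] at hd; omega
  · rw [hd] at h0; exact absurd hdm h0
  · rw [hd, ← hn, badCand_false hG one_ne_zero hfac hm] at h0
    exact absurd h0 Bool.false_ne_true
  rw [hd] at h0
  have hjlt : j < p := by
    have := Nat.le_of_dvd (by have := hp.two_le; omega) hjp
    omega
  rcases h0 j hjlt with h1 | h1
  · exact h1
  exfalso
  obtain ⟨c, hc⟩ := hpC
  have hquot : n / d = p * j * c := by
    rw [← hNd, Nat.mul_div_cancel _ (by omega), ← hCj, hc]; ring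
  have hc' : n / d / (p * j) = c := by
    rw [hquot, Nat.mul_div_cancel_left _ (Nat.mul_pos hp.pos (by omega))]
  simp only [configBool, Bool.or_eq_true, Bool.and_eq_true, decide_eq_true_eq] at h1
  rw [hc'] at h1
  rcases h1 with ((((h2 | h2) | h2) | ⟨-, h2⟩)) | h2
  · omega
  · exact h2 hjp
  · exact h2 (hquot ▸ dvd_mul_right _ _)
  · obtain ⟨c', hc1, hc2⟩ := exists_card_centralizer_dvd hG hodd hx hP
      (show Nat.card (Sylow p G) = (d - 1) / p * p + 1 by
        rw [← hddef, show d - 1 = d / p * p by omega, Nat.mul_div_cancel _ hp.pos]; omega)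
    rw [hc] at hc1
    rw [Nat.eq_of_mul_eq_mul_left hp.pos hc1] at h2
    exact h2 (card_alternatingGroup_fin _ ▸ hc2)
  · refine false_of_degBool' hG R hodd hx hsq hc (by rw [← hCj, hc]) ?_ (hn ▸ h2)
    split_ifs with h3
    · exact Or.inr ⟨h3, le_rfl⟩
    · exact Or.inl le_rfl

theorem card_ne_of_blockBool (hG : ¬ IsMulCommutative G) {n : ℕ} (p R : ℕ)
    (h : blockBool n p R [] = true) : Nat.card G ≠ n := by
  intro hn
  have := Fact.mk (prime_of_primeBool (p := p) (by
    simp only [blockBool, Bool.and_eq_true] at h; exact h.1.1.1.1))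
  obtain ⟨_, _, hmem, -⟩ := mem_of_blockBool hG hn p R [] h
  simp at hmem

end Cfsg.Agent.SmallOrders.BlockDegrees
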