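-- No simple groups of order 4032 or 5760.
--
-- * `card_ne_4032`, `card_ne_5760`
import Cfsg.Agent.Lib.SmallOrders.BlockDegrees.Criterion
import Cfsg.Agent.Lib.SmallOrders.BlockDegrees.InvolutionFormula

set_option autoImplicit false

namespace Cfsg.Agent.SmallOrders.BlockDegrees

variable {G : Type*} [Group G] [Finite G] [IsSimpleGroup G]

/-- the formula with the unknowns bounded -/
theorem exists_formula_of_blockBool (hG : ¬ IsMulCommutative G) {n : ℕ} (hn : Nat.card G = n)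
    (p R d : ℕ) [Fact p.Prime] (hp5 : 5 ≤ p) (h : blockBool n p R [(d, 2)] = true)
    (hd : d * (p * 2) = n) (hsq : ¬ p ^ 2 ∣ n) :
    ∃ (x : G) (X Y : ℤ), orderOf x = p ∧
      Nat.card (Subgroup.centralizer ({x} : Set G)) = p ∧
      DegSol n p 2 ((p - 1) / 2) 2 {X} Y ∧
      (∀ t u : G, orderOf t = 2 → orderOf u = 2 → IsConj t u) ∧
      ∀ t : G, orderOf t = 2 → ∃ v : ℤ, v.natAbs < X.natAbs ∧
        (p : ℤ) * X * Y * (Nat.card (Subgroup.centralizer ({t} : Set G)) : ℤ) ^ 2 =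
          (n : ℤ) * (X - v) ^ 2 := by
  obtain ⟨x, j, hmem, hx, hN, hC⟩ := mem_of_blockBool hG hn p R _ h
  simp only [List.mem_singleton, Prod.mk.injEq] at hmem
  obtain ⟨hd', rfl⟩ := hmem
  rw [hd'] at hN
  have hd0 : 0 < d := Nat.pos_of_ne_zero fun e => by
    rw [e, zero_mul] at hd; exact Nat.card_pos.ne' (hn.trans hd.symm)
  have hN' : Nat.card (Subgroup.normalizer (Subgroup.zpowers x : Set G)) = p * 2 :=
    Nat.eq_of_mul_eq_mul_right hd0 (hN.trans (by rw [← hd, mul_comm]))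
  have hC' : Nat.card (Subgroup.centralizer ({x} : Set G)) = p :=
    Nat.eq_of_mul_eq_mul_right two_pos (hC.trans hN')
  obtain ⟨X, Y, hsol, hcls, hf⟩ := exists_formula hG hp5 hx (hn ▸ hsq) hC' hN'
  exact ⟨x, X, Y, hx, hC', hn ▸ hsol, hcls, hn ▸ hf⟩

theorem card_sylow_dvd_centralizer {p : ℕ} [Fact p.Prime] (hp : p ∣ Nat.card G) :
    ∃ t : G, orderOf t = p ∧ p ^ (Nat.card G).factorization p ∣
      Nat.card (Subgroup.centralizer ({t} : Set G)) := by
  obtain ⟨P⟩ := (inferInstance : Nonempty (Sylow p G))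
  have hne : Nontrivial (P : Subgroup G) := (Subgroup.nontrivial_iff_ne_bot _).mpr (P.ne_bot_of_dvd_card hp)
  have := P.isPGroup'.center_nontrivial
  obtain ⟨k, hk0, hk⟩ := (P.isPGroup'.to_subgroup (Subgroup.center (P : Subgroup G))).nontrivial_iff_card.mp this
  obtain ⟨z, hz⟩ := exists_prime_orderOf_dvd_card' (G := Subgroup.center (P : Subgroup G)) p
    (by rw [hk]; exact dvd_pow_self p hk0.ne')
  refine ⟨((z : (P : Subgroup G)) : G), by rw [Subgroup.orderOf_coe, Subgroup.orderOf_coe, hz], ?_⟩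
  rw [← P.card_eq_multiplicity]
  exact Subgroup.card_dvd_of_le fun a ha => Subgroup.mem_centralizer_singleton_iff.mpr
    (congrArg Subtype.val (Subgroup.mem_center_iff.mp z.2 ⟨a, ha⟩))

/-- the possible `X` for `|N(P)| = 2 |P|` -/
def xList (n p R : ℕ) : List ℤ :=
  (degCand n p 2 R).filter fun X => finalBool n p 2 ((p - 1) / 2) 2 (1 + X) (1 + X.natAbs ^ 2)

theorem mem_xList {n p R : ℕ} (hR : n < R * R) {X Y : ℤ}
    (h : DegSol n p 2 ((p - 1) / 2) 2 {X} Y) : X ∈ xList n p R ∧ Y = 1 + X := by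
  obtain ⟨-, hX, hy1, hy2, hy3, hsum, hsq⟩ := h
  obtain ⟨h1, h2, h3⟩ := hX X (Multiset.mem_singleton_self X)
  rw [Multiset.sum_singleton] at hsum
  rw [Multiset.map_singleton, Multiset.sum_singleton] at hsq
  subst hsum
  refine ⟨List.mem_filter.mpr ⟨?_, ?_⟩, rfl⟩
  · have hlt : X.natAbs < R := Nat.mul_self_lt_mul_self_iff.mp (by rw [← pow_two]; omega)
    refine List.mem_flatMap.mpr ⟨X.natAbs, List.mem_range.mpr hlt, ?_⟩
    rw [if_pos ⟨h1, h2⟩, List.mem_append]
    rcases Int.natAbs_eq X with e | e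
    · left; rw [← e, if_pos h3]; exact List.mem_singleton.mpr rfl
    · right
      rw [show -((X.natAbs : ℕ) : ℤ) = X from e.symm, if_pos h3]
      exact List.mem_singleton.mpr rfl
  · simp only [finalBool, Bool.and_eq_true, decide_eq_true_eq]
    exact ⟨⟨⟨hy1, hy2⟩, hy3⟩, hsq⟩

theorem xList_4032 : xList 4032 7 64 = [8] := by decide +kernel

theorem xList_5760 : xList 5760 5 76 = [-4, -9] := by decide +kernel

theorem eq_zero_of_sq_eq_eight_sq : ∀ k, k < 16 → ∀ C, C < 46 → C * C = 8 * (k * k) → k = 0 := by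
  decide +kernel

theorem card_ne_4032 (hG : ¬ IsMulCommutative G) : Nat.card G ≠ 4032 := by
  intro h
  have : Fact (Nat.Prime 7) := ⟨by norm_num⟩
  have : Fact (Nat.Prime 2) := ⟨Nat.prime_two⟩
  obtain ⟨x, X, Y, -, -, hsol, -, hf⟩ :=
    exists_formula_of_blockBool hG h 7 64 288 (by norm_num) (by decide +kernel) (by norm_num)
      (by norm_num)
  obtain ⟨hmem, rfl⟩ := mem_xList (R := 64) (by norm_num) hsol
  rw [xList_4032, List.mem_singleton] at hmem
  subst hmem
  obtain ⟨t, ht⟩ := exists_prime_orderOf_dvd_card' (G := G) 2 (by rw [h]; norm_num)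
  obtain ⟨v, hv, hC⟩ := hf t ht
  set C := Nat.card (Subgroup.centralizer ({t} : Set G))
  obtain ⟨k, hk, hk'⟩ : ∃ k : ℕ, (k : ℤ) = 8 - v ∧ 0 < k ∧ k < 16 := ⟨(8 - v).toNat, by omega⟩
  rw [← hk] at hC
  have hC2 : C * C = 8 * (k * k) := by
    have : (C : ℤ) * C = 8 * (k * k) :=
      mul_left_cancel₀ (show (504 : ℤ) ≠ 0 by norm_num) (by linear_combination hC)
    exact_mod_cast this
  have hC46 : C < 46 := by
    by_contra hge
    have := Nat.mul_le_mul (Nat.not_lt.mp hge) (Nat.not_lt.mp hge)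
    have := Nat.mul_le_mul (Nat.le_of_lt_succ hk'.2) (Nat.le_of_lt_succ hk'.2)
    omega
  have := eq_zero_of_sq_eq_eight_sq k hk'.2 C hC46 hC2
  omega

theorem card_ne_5760 (hG : ¬ IsMulCommutative G) : Nat.card G ≠ 5760 := by
  intro h
  have : Fact (Nat.Prime 5) := ⟨by norm_num⟩
  have : Fact (Nat.Prime 2) := ⟨Nat.prime_two⟩
  obtain ⟨x, X, Y, -, -, hsol, -, hf⟩ :=
    exists_formula_of_blockBool hG h 5 76 576 (by norm_num) (by decide +kernel) (by norm_num)
      (by norm_num)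
  obtain ⟨hmem, rfl⟩ := mem_xList (R := 76) (by norm_num) hsol
  rw [xList_5760] at hmem
  obtain ⟨t, ht, hT⟩ := card_sylow_dvd_centralizer (G := G) (p := 2) (by rw [h]; norm_num)
  have h128 : 128 ∣ Nat.card (Subgroup.centralizer ({t} : Set G)) := by
    obtain ⟨P⟩ := (inferInstance : Nonempty (Sylow 2 G))
    have hm := card_sylow_subgroup (p := 2) (e := 7) (m := 45) (by rw [h]; norm_num) (by norm_num) P
    rw [Sylow.card_eq_multiplicity] at hm
    rw [hm] at hT
    simpa using hT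
  obtain ⟨v, hv, hC⟩ := hf t ht
  set C := Nat.card (Subgroup.centralizer ({t} : Set G))
  have hCpos : 0 < C := Nat.card_pos
  obtain ⟨m, hm⟩ := h128
  simp only [List.mem_cons, List.mem_nil_iff, or_false] at hmem
  rcases hmem with rfl | rfl
  · have hb : (-4 - v) ^ 2 ≤ (49 : ℤ) := by nlinarith [show -4 < v ∧ v < 4 by omega]
    have : (C : ℤ) ≥ 128 := by omega
    have e : (C : ℤ) ^ 2 = 96 * (-4 - v) ^ 2 :=
      mul_left_cancel₀ (show (60 : ℤ) ≠ 0 by norm_num) (by push_cast at hC; linear_combination hC)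
    nlinarith [mul_le_mul this this (by norm_num) (by omega : (0 : ℤ) ≤ C)]
  · have hb : (-9 - v) ^ 2 ≤ (289 : ℤ) := by nlinarith [show -9 < v ∧ v < 9 by omega]
    have : (C : ℤ) ≥ 128 := by omega
    have e : (C : ℤ) ^ 2 = 16 * (-9 - v) ^ 2 :=
      mul_left_cancel₀ (show (360 : ℤ) ≠ 0 by norm_num) (by push_cast at hC; linear_combination hC)
    nlinarith [mul_le_mul this this (by norm_num) (by omega : (0 : ℤ) ≤ C)]

end Cfsg.Agent.SmallOrders.BlockDegrees
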