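-- The principal block of a simple group in the section of an element of order `p`.
--
-- * `exists_blockData`: signs, degrees, values on `x K` and the relation on `p`-regular elements
import Cfsg.Agent.Lib.SmallOrders.BlockDegrees.Principal
import Cfsg.Agent.Lib.CentralChar.Fixed

set_option autoImplicit false

namespace Cfsg.Agent.SmallOrders.BlockDegrees

open Cfsg Cfsg.Agent.Blocks Cfsg.Agent.CyclicDefect

variable {G : Type*} [Group G] [Finite G] [IsSimpleGroup G]

/-- the principal character -/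
def oneChar (G : Type*) [Group G] [Finite G] : IrrCharacter G := ⟨1, Char.isIrrCharacter_one⟩

/-- `A` with signs `σ`, and `E` with the common sign `ε` -/
structure BlockData (p e lo : ℕ) (x : G) (L : Subgroup G) (A E : Finset (IrrCharacter G))
    (σ : IrrCharacter G → ℤ) (ε : ℤ) : Prop where
  one_notA : oneChar G ∉ A
  one_notE : oneChar G ∉ E
  disj : Disjoint A E
  cardA : A.card + 1 = e
  cardE : E.card = (p - 1) / e
  nonempty : E.Nonempty
  sign : ∀ χ ∈ A, σ χ = 1 ∨ σ χ = -1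
  signE : ε = 1 ∨ ε = -1
  degA : ∀ χ ∈ A, lo ≤ charDegree (χ : G → ℂ) ∧ σ χ * (charDegree (χ : G → ℂ) : ℤ) % p = 1
  degE : ∀ χ ∈ E, lo ≤ charDegree (χ : G → ℂ) ∧
    ε * (charDegree (χ : G → ℂ) : ℤ) % p = (e : ℤ) % p
  valA : ∀ χ ∈ A, ∀ k : K x L, (χ : G → ℂ) (x * ((k : L) : G)) = σ χ
  valE : ∀ k : K x L, ∑ χ ∈ E, (χ : G → ℂ) (x * ((k : L) : G)) = -(ε : ℂ)
  rel : ∀ g : G, ¬ p ∣ orderOf g → ∀ χ ∈ E,
    (ε : ℂ) * (χ : G → ℂ) g = 1 + ∑ ψ ∈ A, (σ ψ : ℂ) * (ψ : G → ℂ) g
  other : ∀ [Fintype (K x L)], ∀ χ : IrrCharacter G, χ ≠ oneChar G → χ ∉ A → χ ∉ E →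
    ∑ k : K x L, (χ : G → ℂ) (x * ((k : L) : G)) = 0

theorem exists_blockData (hG : ¬ IsMulCommutative G) {p c e lo : ℕ} [Fact p.Prime] (hodd : p ≠ 2)
    {x : G} (hx : orderOf x = p) (hsq : ¬ p ^ 2 ∣ Nat.card G)
    (hC : Nat.card (Subgroup.centralizer ({x} : Set G)) = p * c)
    (hN : Nat.card (Subgroup.normalizer (Subgroup.zpowers x : Set G)) = p * c * e)
    (hlo : lo ≤ 2 ∨ (1 < c ∧ lo ≤ 2 * p)) :
    ∃ (L : Subgroup G) (A E : Finset (IrrCharacter G)) (σ : IrrCharacter G → ℤ) (ε : ℤ),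
      Setting p x L ∧ Nat.card (K x L) = c ∧ BlockData p e lo x L A E σ ε := by
  classical
  have hp : p.Prime := Fact.out
  obtain ⟨L, hS⟩ := exists_setting hp hx hsq
  obtain ⟨M, hM⟩ := CentralChar.exists_pModular p
  have := hS.normal_K
  have := Fintype.ofFinite G
  have := Fintype.ofFinite (IrrCharacter G)
  have := Fintype.ofFinite (K x L)
  have := Fintype.ofFinite (IrrCharacter (K x L))
  obtain ⟨hB, h1B⟩ := principal_isPBlock (G := G) hM
  set B := principalBlock M G with hBdef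
  have hl := lies_principal hS hM
  set U' := U hS (oneK x L : K x L → ℂ) with hU'
  obtain ⟨hk, exc, ε, δ, hinj, hexcB, hε, hexc, hcst, hrel⟩ := block_structure hS hM hB hl
  rw [← hU'] at hk
  have hcK : Nat.card (K x L) = c := Nat.eq_of_mul_eq_mul_left hp.pos (hS.card_centralizer.symm.trans hC)
  have hc0 : 0 < c := hcK ▸ Nat.card_pos
  have he : Nat.card U' = e := by
    rw [hU', card_U_one hS]
    have h1 := hS.card_normalizer.symm.trans hN
    rw [← (K x L).card_mul_index, hcK, mul_assoc] at h1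
    exact Nat.eq_of_mul_eq_mul_left hc0 (Nat.eq_of_mul_eq_mul_left hp.pos h1)
  have he0 : 0 < e := he ▸ Nat.card_pos
  have hQ : Nat.card ((ZMod p)ˣ ⧸ U') = (p - 1) / e := by
    rw [← card_units_eq hS (oneK x L : K x L → ℂ), ← hU', he, Nat.mul_div_cancel_left _ he0]
  -- degrees
  set one : IrrCharacter G := oneChar G with hone
  have hd1 : charDegree (one : G → ℂ) = 1 := by simp [charDegree, hone, oneChar]
  have hna : ∃ a b : G, a * b ≠ b * a := by
    by_contra! h
    exact hG ⟨⟨h⟩⟩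
  have hlin : ∀ χ : IrrCharacter G, charDegree (χ : G → ℂ) = 1 → χ = one := fun χ h1 => by
    refine Subtype.ext ((eq_one_of_degree_one hna ?_).trans rfl)
    rw [← charDegree_cast, h1, Nat.cast_one]
  have hlo' : ∀ χ ∈ B, χ ≠ one → lo ≤ charDegree (χ : G → ℂ) := by
    intro χ hχ hne
    have hne' : (χ : G → ℂ) ≠ 1 := fun e' => hne (Subtype.ext e')
    have h1 : 1 ≤ charDegree (χ : G → ℂ) := charDegree_pos χ
    have h2 : charDegree (χ : G → ℂ) ≠ 1 := fun h => hne (hlin χ h)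
    rcases hlo with h | ⟨hc1, h⟩
    · omega
    · exact h.trans (two_p_le_degree hS hM hG hχ hne' (by omega))
  have hp1 : ((p - 1 : ℕ) : ℤ) ≡ -1 [ZMOD p] :=
    Int.modEq_iff_dvd.mpr ⟨-1, by rw [Nat.cast_sub hp.one_le]; push_cast; ring⟩
  have hcong : ∀ χ ∈ B, (charDegree (χ : G → ℂ) : ℤ) ≡
      ∑ u : (ZMod p)ˣ, bInt hS χ (oneK x L) (u : ZMod p) [ZMOD p] := by
    intro χ hχ
    have h := memI_apply_one_sub hS hM hB hl hχ
    rw [card_lies_one hS hM, Nat.cast_one, one_mul, show (oneK x L : K x L → ℂ) 1 = 1 from rfl, one_mul,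
      ← charDegree_cast, ← Int.cast_natCast (R := ℂ)] at h
    exact intModEq_of_memI hM h
  have hval : ∀ χ ∈ B, ∀ k : K x L, (χ : G → ℂ) (x * ((k : L) : G)) =
      ∑ j : ZMod p, (bInt hS χ (oneK x L) j : ℂ) * ζ j := by
    intro χ hχ k
    have h := apply_pw_mul_principal hS hM hχ (one_ne_zero (α := ZMod p))
    rw [hS.pw_one] at h
    have h2 := dec_eq_sum_bInt hS χ (oneK x L) (one_ne_zero (α := ZMod p))
    simp only [one_mul] at h2
    rw [h k, ← h2, dec_eq, classInner]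
    simp_rw [hS.pw_one, h, show ∀ k' : K x L, (oneK x L : K x L → ℂ) k' = 1 from fun _ => rfl, map_one,
      mul_one]
    rw [Finset.sum_const, Finset.card_univ, ← Nat.card_eq_fintype_card, nsmul_eq_mul, ← mul_assoc,
      inv_mul_cancel₀ (Nat.cast_ne_zero.mpr Nat.card_pos.ne'), one_mul]
  have hζsum : ∀ a : ℂ, ∑ j : ZMod p, (if j = 0 then 0 else a) * ζ j = -a := by
    intro a
    have h0 : ∀ j : ZMod p, (if j = 0 then 0 else a) * ζ j =
        a * ζ (j * 1) - (if j = 0 then a else 0) := fun j => by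
      by_cases hj : j = 0
      · simp [hj, ζ_zero]
      · simp [hj]
    simp_rw [h0]
    rw [Finset.sum_sub_distrib, ← Finset.mul_sum, sum_ζ_mul, if_neg one_ne_zero, mul_zero,
      Finset.sum_ite_eq' Finset.univ (0 : ZMod p) fun _ => a, if_pos (Finset.mem_univ _), zero_sub]
  set F := Finset.univ.filter (fun χ => χ ∈ B ∧ χ ∉ Set.range exc) with hF
  have hmemF : ∀ χ, χ ∈ F ↔ χ ∈ B ∧ χ ∉ Set.range exc := fun χ => by simp [hF]
  set σ : IrrCharacter G → ℤ := fun χ => -δ χ with hσ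
  have hσsign : ∀ χ ∈ F, σ χ = 1 ∨ σ χ = -1 := fun χ hχ => by
    obtain ⟨hχB, hχn⟩ := (hmemF χ).mp hχ
    rcases (hcst χ hχB hχn).1 with h | h <;> simp [hσ, h]
  have hvalF : ∀ χ ∈ F, ∀ k : K x L, (χ : G → ℂ) (x * ((k : L) : G)) = σ χ := fun χ hχ k => by
    obtain ⟨hχB, hχn⟩ := (hmemF χ).mp hχ
    rw [hval χ hχB k, hσ, Int.cast_neg, ← hζsum (δ χ)]
    refine Finset.sum_congr rfl fun j _ => ?_
    by_cases hj : j = 0
    · rw [hj, bInt_zero hS, Int.cast_zero, if_pos rfl]
    · rw [show j = ((Units.mk0 j hj : (ZMod p)ˣ) : ZMod p) from rfl, (hcst χ hχB hχn).2,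
        if_neg (Units.ne_zero _)]
  have hvalE : ∀ k : K x L, ∑ cc, (exc cc : G → ℂ) (x * ((k : L) : G)) = -(ε : ℂ) := by
    intro k
    rw [Finset.sum_congr rfl fun cc _ => hval _ (hexcB cc) k, Finset.sum_comm, ← hζsum ε]
    refine Finset.sum_congr rfl fun j _ => ?_
    rw [← Finset.sum_mul]
    congr 1
    by_cases hj : j = 0
    · simp [hj, bInt_zero hS]
    · rw [if_neg hj, Finset.sum_congr rfl fun cc _ => by
        rw [show j = ((Units.mk0 j hj : (ZMod p)ˣ) : ZMod p) from rfl, hexc cc],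
        ← Int.cast_sum, Finset.sum_ite_eq, if_pos (Finset.mem_univ _)]
  have hFmod : ∀ χ ∈ F, σ χ * (charDegree (χ : G → ℂ) : ℤ) % p = 1 := fun χ hχ => by
    obtain ⟨hχB, hχn⟩ := (hmemF χ).mp hχ
    obtain ⟨hdl, hrow⟩ := hcst χ hχB hχn
    have h := hcong χ hχB
    rw [sum_bInt_const hS hrow] at h
    have h2 := (h.trans (hp1.mul_left (δ χ))).mul_left (-δ χ)
    have h3 : -δ χ * (δ χ * -1) = 1 := by rcases hdl with h' | h' <;> simp [h']
    rw [h3] at h2
    exact h2.eq.trans (Int.emod_eq_of_lt zero_le_one (by exact_mod_cast hp.one_lt))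
  have hEmod : ∀ cc, ε * (charDegree (exc cc : G → ℂ) : ℤ) ≡ (e : ℤ) [ZMOD p] := fun cc => by
    have h := hcong _ (hexcB cc)
    rw [sum_bInt_exc hS (hexc cc), ← hU', he] at h
    have h2 := h.mul_left ε
    rwa [show ε * (ε * (e : ℤ)) = e by rcases hε with h' | h' <;> simp [h']] at h2
  have hεε : (ε : ℂ) * ε = 1 := by rcases hε with h' | h' <;> simp [h']
  have hexcd : ∀ cc cc', charDegree (exc cc : G → ℂ) = charDegree (exc cc' : G → ℂ) := by
    intro cc cc'
    have h1 : ¬ p ∣ orderOf (1 : G) := by simpa using hp.ne_one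
    have h := (hrel 1 h1 cc).trans (hrel 1 h1 cc').symm
    rw [add_left_cancel_iff] at h
    have h' : (exc cc : G → ℂ) 1 = (exc cc' : G → ℂ) 1 :=
      mul_left_cancel₀ (left_ne_zero_of_mul_eq_one hεε) h
    rw [← charDegree_cast, ← charDegree_cast] at h'
    exact_mod_cast h'
  have hrel' : ∀ g : G, ¬ p ∣ orderOf g → ∀ cc,
      ∑ χ ∈ F, (σ χ : ℂ) * (χ : G → ℂ) g = (ε : ℂ) * (exc cc : G → ℂ) g := fun g hg cc => by
    have h := hrel g hg cc
    rw [Finset.sum_congr (s₂ := F) (by ext χ; simp [hF]) (fun _ _ => rfl), add_comm,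
      add_eq_zero_iff_eq_neg] at h
    simp only [hσ, Int.cast_neg, neg_mul, Finset.sum_neg_distrib]
    exact h.symm
  have hFcard : F.card = e := by
    have h1 : (Finset.univ.filter (· ∈ B)).card = e + (p - 1) / e := by
      rw [← hQ, ← he, ← hk, Nat.card_eq_fintype_card, ← Fintype.card_subtype]
    have h2 : F = (Finset.univ.filter (· ∈ B)) \ Finset.univ.image exc := by
      ext χ; simp [hF]
    rw [h2, Finset.card_sdiff_of_subset (fun χ hχ => by
      obtain ⟨cc, -, rfl⟩ := Finset.mem_image.mp hχ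
      simp [hexcB cc]), h1, Finset.card_image_of_injective _ hinj, Finset.card_univ,
      ← Nat.card_eq_fintype_card, hQ, Nat.add_sub_cancel]
  have hEcard : (Finset.univ.image exc).card = (p - 1) / e := by
    rw [Finset.card_image_of_injective _ hinj, Finset.card_univ, ← Nat.card_eq_fintype_card, hQ]
  have hother : ∀ [Fintype (K x L)], ∀ χ : IrrCharacter G, χ ∉ F → χ ∉ Finset.univ.image exc →
      ∑ k : K x L, (χ : G → ℂ) (x * ((k : L) : G)) = 0 := by
    intro _ χ h1 h2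
    have hnB : χ ∉ B := fun hB' => h1 ((hmemF χ).mpr ⟨hB', fun ⟨cc, hcc⟩ =>
      h2 (Finset.mem_image.mpr ⟨cc, Finset.mem_univ _, hcc⟩)⟩)
    have h := sum_apply_pw_mul hS hM hnB (one_ne_zero (α := ZMod p))
    simpa only [hS.pw_one] using h
  obtain ⟨c₀⟩ : Nonempty ((ZMod p)ˣ ⧸ U') := inferInstance
  by_cases hcase : one ∈ F
  · -- the principal character is not exceptional
    have hσ1 : σ one = 1 := by
      rcases hσsign one hcase with h | h
      · exact h
      · exfalso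
        have h1 := hvalF one hcase 1
        rw [h, show (one : G → ℂ) (x * ((1 : K x L) : L)) = 1 from rfl] at h1
        norm_num at h1
    have hnotexc : ∀ cc, exc cc ≠ one := fun cc e' => ((hmemF one).mp hcase).2 ⟨cc, e'⟩
    refine ⟨L, F.erase one, Finset.univ.image exc, σ, ε, hS, hcK, ?_⟩
    constructor
    · exact Finset.notMem_erase _ _
    · intro h
      obtain ⟨cc, -, hcc⟩ := Finset.mem_image.mp h
      exact hnotexc cc hcc
    · refine Finset.disjoint_left.mpr fun χ hχ hχ' => ?_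
      obtain ⟨cc, -, rfl⟩ := Finset.mem_image.mp hχ'
      exact ((hmemF _).mp (Finset.mem_of_mem_erase hχ)).2 ⟨cc, rfl⟩
    · rw [Finset.card_erase_of_mem hcase, hFcard]; omega
    · exact hEcard
    · exact ⟨exc c₀, Finset.mem_image_of_mem _ (Finset.mem_univ _)⟩
    · exact fun χ hχ => hσsign χ (Finset.mem_of_mem_erase hχ)
    · exact hε
    · intro χ hχ
      obtain ⟨hne, hχF⟩ := Finset.mem_erase.mp hχ
      exact ⟨hlo' χ ((hmemF χ).mp hχF).1 hne, hFmod χ hχF⟩
    · intro χ hχ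
      obtain ⟨cc, -, rfl⟩ := Finset.mem_image.mp hχ
      exact ⟨hlo' _ (hexcB cc) (hnotexc cc), hEmod cc⟩
    · exact fun χ hχ => hvalF χ (Finset.mem_of_mem_erase hχ)
    · intro k
      rw [Finset.sum_image fun a _ b _ h => hinj h, hvalE k]
    · intro g hg χ hχ
      obtain ⟨cc, -, rfl⟩ := Finset.mem_image.mp hχ
      rw [← hrel' g hg cc, ← Finset.add_sum_erase _ _ hcase, hσ1, show (one : G → ℂ) g = 1 from rfl,
        Int.cast_one, one_mul]
    · intro _ χ h1 h2 h3
      exact hother χ (fun h => h2 (Finset.mem_erase.mpr ⟨h1, h⟩)) h3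
  · -- the principal character is exceptional: there is only one such
    obtain ⟨c₁, hc₁⟩ : one ∈ Set.range exc := by
      by_contra hn
      exact hcase ((hmemF one).mpr ⟨h1B, hn⟩)
    have hall : ∀ cc, exc cc = one := fun cc => hlin _ (by rw [hexcd cc c₁, hc₁, hd1])
    have hsub : Subsingleton ((ZMod p)ˣ ⧸ U') := ⟨fun a b => hinj ((hall a).trans (hall b).symm)⟩
    have ht : (p - 1) / e = 1 := by
      rw [← hQ, Nat.card_eq_one_iff_unique]
      exact ⟨hsub, ⟨c₀⟩⟩
    have hε1 : ε = -1 := by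
      have h1 := hvalE 1
      rw [Finset.sum_eq_single c₀ (fun b _ hb => absurd (Subsingleton.elim b c₀) hb)
        (fun h => absurd (Finset.mem_univ _) h), hall c₀,
        show (one : G → ℂ) (x * ((1 : K x L) : L)) = 1 from rfl] at h1
      rcases hε with h | h
      · rw [h] at h1; norm_num at h1
      · exact h
    have hep : e = p - 1 := by
      have h := card_units_eq hS (oneK x L : K x L → ℂ)
      rw [← hU', he, hQ, ht, mul_one] at h
      exact h
    obtain ⟨χ₀, hχ₀⟩ := Finset.card_pos.mp (hFcard ▸ he0)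
    have hne₀ : ∀ χ ∈ F, χ ≠ one := fun χ hχ e' => hcase (e' ▸ hχ)
    have hδ₀ := hσsign χ₀ hχ₀
    refine ⟨L, F.erase χ₀, {χ₀}, σ, -σ χ₀, hS, hcK, ?_⟩
    constructor
    · exact fun h => hcase (Finset.mem_of_mem_erase h)
    · exact fun h => hne₀ χ₀ hχ₀ (Finset.mem_singleton.mp h).symm
    · simp
    · rw [Finset.card_erase_of_mem hχ₀, hFcard]; omega
    · rw [Finset.card_singleton, ht]
    · exact Finset.singleton_nonempty _
    · exact fun χ hχ => hσsign χ (Finset.mem_of_mem_erase hχ)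
    · rcases hδ₀ with h | h <;> simp [h]
    · intro χ hχ
      have hχF := Finset.mem_of_mem_erase hχ
      exact ⟨hlo' χ ((hmemF χ).mp hχF).1 (hne₀ χ hχF), hFmod χ hχF⟩
    · intro χ hχ
      rw [Finset.mem_singleton] at hχ
      subst hχ
      refine ⟨hlo' χ ((hmemF χ).mp hχ₀).1 (hne₀ χ hχ₀), ?_⟩
      have h2 : σ χ * (charDegree (χ : G → ℂ) : ℤ) ≡ 1 [ZMOD p] :=
        (hFmod χ hχ₀).trans (Int.emod_eq_of_lt zero_le_one (by exact_mod_cast hp.one_lt)).symm
      rw [neg_mul]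
      exact (h2.neg.trans (hep ▸ hp1).symm).eq
    · exact fun χ hχ => hvalF χ (Finset.mem_of_mem_erase hχ)
    · intro k
      rw [Finset.sum_singleton, hvalF χ₀ hχ₀ k]
      push_cast; ring
    · intro g hg χ hχ
      rw [Finset.mem_singleton] at hχ
      subst hχ
      have h := hrel' g hg c₀
      rw [hall c₀, hε1, ← Finset.add_sum_erase _ _ hχ₀, show (one : G → ℂ) g = 1 from rfl] at h
      push_cast at h ⊢
      linear_combination -h
    · intro _ χ h1 h2 h3
      refine hother χ (fun h => h2 (Finset.mem_erase.mpr ⟨fun e' => h3 (Finset.mem_singleton.mpr e'), h⟩))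
        fun h => ?_
      obtain ⟨cc, -, hcc⟩ := Finset.mem_image.mp h
      exact h1 (hcc.symm.trans (hall cc))

end Cfsg.Agent.SmallOrders.BlockDegrees
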