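-- Character values on involutions of a simple group.
--
-- * `exists_int_mod_four`: an integer congruent to the degree modulo `4`
import Cfsg.Agent.Lib.SmallOrders.BlockDegrees.InvolutionFormula

set_option autoImplicit false

namespace Cfsg.Agent.SmallOrders.BlockDegrees

open Cfsg

theorem four_dvd_of_prod_eq_one {ι : Type*} (s : ι → ℤ) (hs : ∀ i, s i = 1 ∨ s i = -1)
    (S : Finset ι) :
    (∏ i ∈ S, s i = 1 ∧ ((S.card : ℤ) - ∑ i ∈ S, s i) % 4 = 0) ∨
      (∏ i ∈ S, s i = -1 ∧ ((S.card : ℤ) - ∑ i ∈ S, s i) % 4 = 2) := by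
  classical
  induction S using Finset.induction_on with
  | empty => simp
  | insert a S ha ih =>
    rw [Finset.prod_insert ha, Finset.sum_insert ha, Finset.card_insert_of_notMem ha]
    push_cast
    rcases hs a with h | h <;> rcases ih with ⟨h1, h2⟩ | ⟨h1, h2⟩ <;> rw [h, h1]
    · exact Or.inl ⟨rfl, by omega⟩
    · exact Or.inr ⟨rfl, by omega⟩
    · exact Or.inr ⟨rfl, by omega⟩
    · exact Or.inl ⟨rfl, by omega⟩

variable {G : Type*} [Group G] [Finite G] [IsSimpleGroup G]

theorem exists_int_mod_four (hG : ¬ IsMulCommutative G) {χ : G → ℂ} (hχ : IsCharacter G χ) {t : G}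
    (ht : t * t = 1) : ∃ v : ℤ, χ t = v ∧ ((charDegree χ : ℤ) - v) % 4 = 0 := by
  classical
  obtain ⟨n, ρ, rfl⟩ := hχ
  obtain ⟨b, μ, hμ, hroot⟩ := Char.exists_eigenbasis ρ t
  have hsign : ∀ i, μ i = 1 ∨ μ i = -1 := fun i => by
    refine mul_self_eq_one_iff.mp ?_
    obtain ⟨q, hq⟩ : orderOf t ∣ 2 := orderOf_dvd_of_pow_eq_one (by rw [pow_two, ht])
    rw [← pow_two, hq, pow_mul, hroot, one_pow]
  let s : Fin (Module.finrank ℂ (Fin n → ℂ)) → ℤ := fun i => if μ i = 1 then 1 else -1
  have hsμ : ∀ i, μ i = (s i : ℂ) := fun i => by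
    rcases hsign i with h | h
    · simp [s, h]
    · simp [s, h, show (-1 : ℂ) ≠ 1 by norm_num]
  refine ⟨∑ i, s i, ?_, ?_⟩
  · rw [Char.character_eq_sum_eigenvalues ρ t b μ hμ, Int.cast_sum]
    exact Finset.sum_congr rfl fun i _ => hsμ i
  · have hdeg : charDegree ρ.character = Module.finrank ℂ (Fin n → ℂ) := by
      rw [charDegree, Representation.char_one, Complex.natCast_re, Nat.floor_natCast]
    let φ : G →* ℂ := (LinearMap.det : ((Fin n → ℂ) →ₗ[ℂ] (Fin n → ℂ)) →* ℂ).comp ρ
    have hφ : φ.ker = ⊤ := by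
      rcases (MonoidHom.normal_ker φ).eq_bot_or_eq_top with h | h
      · refine absurd (⟨⟨fun a c => (MonoidHom.ker_eq_bot_iff _).mp h ?_⟩⟩) hG
        rw [map_mul, map_mul, mul_comm]
      · exact h
    have hdet : LinearMap.det (ρ t) = 1 := MonoidHom.mem_ker.mp (hφ ▸ Subgroup.mem_top t : t ∈ φ.ker)
    have hmat : LinearMap.toMatrix b b (ρ t) = Matrix.diagonal μ := by
      ext i j
      rw [LinearMap.toMatrix_apply, hμ, map_smul, Module.Basis.repr_self, Finsupp.smul_single,
        smul_eq_mul, mul_one, Matrix.diagonal_apply, Finsupp.single_apply]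
      by_cases hij : j = i
      · subst hij; simp
      · rw [if_neg hij, if_neg (Ne.symm hij)]
    have hprod : ∏ i, s i = 1 := by
      apply Int.cast_injective (α := ℂ)
      push_cast
      rw [← hdet, ← LinearMap.det_toMatrix b, hmat, Matrix.det_diagonal]
      exact Finset.prod_congr rfl fun i _ => (hsμ i).symm
    rcases four_dvd_of_prod_eq_one s (fun i => by simp only [s]; split_ifs <;> simp) Finset.univ with
      ⟨-, h⟩ | ⟨h, -⟩
    · rw [Finset.card_univ, Fintype.card_fin] at h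
      rw [hdeg]
      exact h
    · rw [hprod] at h; norm_num at h

end Cfsg.Agent.SmallOrders.BlockDegrees
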