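-- A kernel-checkable search for degrees together with values on an involution.
--
-- * `invBool n p e c lo q pos R`: there are no such values with `q ∣ |C(t)|`
-- * `false_of_invBool`
import Cfsg.Agent.Lib.SmallOrders.BlockDegrees.Check

set_option autoImplicit false

namespace Cfsg.Agent.SmallOrders.BlockDegrees

/-- all solutions of the degree equation from the list of candidates -/
def degSols (n p e t lo : ℕ) : List ℤ → ℕ → ℤ → ℕ → List (List ℤ)
  | [], k, acc, sq => if k = 0 ∧ finalBool n p e t lo acc sq = true then [[]] else []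
  | x :: xs, k, acc, sq => (List.range (k + 1)).flatMap fun j =>
      if n < sq + j * x.natAbs ^ 2 then [] else
        (degSols n p e t lo xs (k - j) (acc + j * x) (sq + j * x.natAbs ^ 2)).map
          (List.replicate j x ++ ·)

/-- `c Σ = k C²` is impossible for `p ∣ k ≤ p c²` and `C` in the list -/
def finalVal (n p t c : ℕ) (pos : Bool) (Cs : List ℕ) (y w S : ℤ) (vsq : ℕ) : Bool :=
  decide (y.natAbs ≤ w.natAbs) || decide ((y - w) % 4 ≠ 0) ||
    Cs.all fun C => decide (C < vsq + t * w.natAbs ^ 2) ||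
      decide ((c : ℤ) * (S - w ^ 2 * ((n : ℤ) / y)) % ((C * C * p : ℕ) : ℤ) ≠ 0) ||
      decide ((c : ℤ) * (S - w ^ 2 * ((n : ℤ) / y)) < 0) ||
      decide (((p * (c * c) * (C * C) : ℕ) : ℤ) < (c : ℤ) * (S - w ^ 2 * ((n : ℤ) / y))) ||
      (pos && decide ((c : ℤ) * (S - w ^ 2 * ((n : ℤ) / y)) = 0))

/-- the possible values at an involution of a character with signed degree `x` -/
def vCand (x : ℤ) : List ℤ :=
  ((List.range (2 * x.natAbs)).map fun i : ℕ => (i : ℤ) - (x.natAbs : ℤ)).filter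
    fun v => decide (v.natAbs < x.natAbs) && decide ((x - v) % 4 = 0)

/-- no values complete the partial sums -/
def valBool (n p t c : ℕ) (pos : Bool) (Cs : List ℕ) (y : ℤ) :
    List ℤ → ℤ → ℤ → ℕ → Bool
  | [], w, S, vsq => finalVal n p t c pos Cs y w S vsq
  | x :: xs, w, S, vsq => (vCand x).all fun v =>
      valBool n p t c pos Cs y xs (w + v) (S + v ^ 2 * ((n : ℤ) / x)) (vsq + v.natAbs ^ 2)

/-- the possible `|C(t)|` -/
def cList (n q : ℕ) : List ℕ :=
  ((List.range (n / q + 1)).map (· * q)).filter fun C => decide (2 ∣ C) && decide (C ∣ n)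

/-- no values at all -/
def invBool (n p e c lo q : ℕ) (pos : Bool) (R : ℕ) : Bool :=
  decide (n < R * R) && decide (0 < q) &&
    (degSols n p e ((p - 1) / e) lo (degCand n p lo R) (e - 1) 1 1).all fun X =>
      valBool n p ((p - 1) / e) c pos (cList n q) (1 + X.sum) X 1 (n : ℤ) 1

theorem degSols_complete {n p e t lo : ℕ} : ∀ (xs : List ℤ) (k : ℕ) (acc : ℤ) (sq : ℕ) (X : Multiset ℤ),
    X.card = k → (∀ x ∈ X, x ∈ xs) →
      finalBool n p e t lo (acc + X.sum) (sq + (X.map fun x => x.natAbs ^ 2).sum) = true →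
      ∃ l ∈ degSols n p e t lo xs k acc sq, (↑l : Multiset ℤ) = X
  | [], k, acc, sq, X, hX, hmem, hf => by
    obtain rfl : X = 0 := Multiset.eq_zero_of_forall_notMem fun x hx => by simpa using hmem x hx
    simp only [Multiset.card_zero] at hX
    subst hX
    exact ⟨[], by simpa [degSols] using hf, rfl⟩
  | x :: xs, k, acc, sq, X, hX, hmem, hf => by
    set j := X.count x with hj
    have hsplit : Multiset.replicate j x + X.filter (fun z => ¬ z = x) = X := by
      rw [hj, ← Multiset.filter_eq']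
      exact Multiset.filter_add_not (fun z => z = x) X
    set Y := X.filter (fun z => ¬ z = x) with hY
    have hcard : j + Y.card = k := by
      rw [← hX, ← hsplit]; simp
    rw [← hsplit, Multiset.sum_add, Multiset.sum_replicate, Multiset.map_add, Multiset.map_replicate,
      Multiset.sum_add, Multiset.sum_replicate, nsmul_eq_mul, smul_eq_mul, ← add_assoc, ← add_assoc] at hf
    obtain ⟨l, hl, hlY⟩ := degSols_complete xs (k - j) _ _ Y (by omega) (fun z hz =>
      (List.mem_cons.mp (hmem z (Multiset.mem_filter.mp hz).1)).resolve_left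
        (Multiset.mem_filter.mp hz).2) hf
    refine ⟨List.replicate j x ++ l, ?_, ?_⟩
    · simp only [degSols, List.mem_flatMap, List.mem_range]
      refine ⟨j, by omega, ?_⟩
      have hle : sq + j * x.natAbs ^ 2 ≤ n := by
        simp only [finalBool, Bool.and_eq_true, decide_eq_true_eq] at hf
        omega
      rw [if_neg (by omega)]
      exact List.mem_map.mpr ⟨l, hl, rfl⟩
    · rw [← hsplit, ← hlY, ← Multiset.coe_replicate, Multiset.coe_add]

theorem exists_aligned {α β : Type*} : ∀ (l : List α) (P : Multiset (α × β)),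
    P.map Prod.fst = ↑l → ∃ L : List (α × β), L.map Prod.fst = l ∧ (↑L : Multiset (α × β)) = P
  | [], P, h => ⟨[], rfl, (Multiset.map_eq_zero.mp h).symm⟩
  | a :: l, P, h => by
    classical
    obtain ⟨q, hq, hqa⟩ := Multiset.mem_map.mp
      (show a ∈ P.map Prod.fst by rw [h]; exact List.mem_cons_self)
    have h' : (P.erase q).map Prod.fst = ↑l := by
      rw [Multiset.map_erase_of_mem _ _ hq, h, hqa]
      simp
    obtain ⟨L, hL, hLP⟩ := exists_aligned l _ h'
    exact ⟨q :: L, by simp [hqa, hL], by rw [← Multiset.cons_coe, hLP, Multiset.cons_erase hq]⟩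

theorem valBool_sound {n p t c : ℕ} {pos : Bool} {Cs : List ℕ} {y : ℤ} :
    ∀ (L : List (ℤ × ℤ)) (w S : ℤ) (vsq : ℕ),
      valBool n p t c pos Cs y (L.map Prod.fst) w S vsq = true →
      (∀ q ∈ L, q.2.natAbs < q.1.natAbs ∧ (q.1 - q.2) % 4 = 0) →
      finalVal n p t c pos Cs y (w + (L.map Prod.snd).sum)
        (S + (L.map fun q => q.2 ^ 2 * ((n : ℤ) / q.1)).sum)
        (vsq + (L.map fun q => q.2.natAbs ^ 2).sum) = true
  | [], w, S, vsq, h, _ => by simpa [valBool] using h
  | (x, v) :: L, w, S, vsq, h, hL => by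
    simp only [List.map_cons, valBool, List.all_eq_true] at h
    obtain ⟨h1, h2⟩ := hL (x, v) List.mem_cons_self
    have hv : v ∈ vCand x := by
      refine List.mem_filter.mpr ⟨List.mem_map.mpr ⟨(v + (x.natAbs : ℤ)).toNat, List.mem_range.mpr ?_, ?_⟩, ?_⟩
      · simp only at h1; omega
      · simp only at h1; omega
      · simp only [Bool.and_eq_true, decide_eq_true_eq]; exact ⟨h1, h2⟩
    have := valBool_sound L _ _ _ (h v hv) fun q hq => hL q (List.mem_cons_of_mem _ hq)
    simpa only [List.map_cons, List.sum_cons, add_assoc] using this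

/-- the data produced by the class formula -/
def ValSol (n p e t lo c : ℕ) (pos : Prop) (C : ℕ) (P : Multiset (ℤ × ℤ)) (y : ℤ) : Prop :=
  DegSol n p e t lo (P.map Prod.fst) y ∧
    (∀ q ∈ P, q.2.natAbs < q.1.natAbs ∧ (q.1 - q.2) % 4 = 0) ∧
    (1 + (P.map Prod.snd).sum).natAbs < y.natAbs ∧ (y - (1 + (P.map Prod.snd).sum)) % 4 = 0 ∧
    1 + (P.map fun q => q.2.natAbs ^ 2).sum + t * (1 + (P.map Prod.snd).sum).natAbs ^ 2 ≤ C ∧
    ∃ k : ℕ, p ∣ k ∧ k ≤ p * (c * c) ∧ (pos → 0 < k) ∧
      (c : ℤ) * ((n : ℤ) + (P.map fun q => q.2 ^ 2 * ((n : ℤ) / q.1)).sum -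
        (1 + (P.map Prod.snd).sum) ^ 2 * ((n : ℤ) / y)) = (k : ℤ) * (C : ℤ) ^ 2

theorem false_of_invBool {n p e c lo q R C : ℕ} {pos : Bool}
    (h : invBool n p e c lo q pos R = true) (hn : 0 < n) {P : Multiset (ℤ × ℤ)} {y : ℤ}
    (hs : ValSol n p e ((p - 1) / e) lo c (pos = true) C P y) (h2 : 2 ∣ C) (hq : q ∣ C) (hC : C ∣ n) :
    False := by
  obtain ⟨⟨hcard, hX, hy1, hy2, hy3, hsum, hsq⟩, hP, hw1, hw2, hvsq, k, hpk, hk, hpos, hform⟩ := hs
  simp only [invBool, Bool.and_eq_true, decide_eq_true_eq, List.all_eq_true] at h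
  obtain ⟨⟨hR, hq0⟩, hall⟩ := h
  have hmem : ∀ x ∈ P.map Prod.fst, x ∈ degCand n p lo R := by
    intro x hx
    obtain ⟨h1, h2, h3⟩ := hX x hx
    have hlt : x.natAbs < R := by
      have : x.natAbs ^ 2 ≤ ((P.map Prod.fst).map fun z => z.natAbs ^ 2).sum :=
        Multiset.le_sum_of_mem (Multiset.mem_map_of_mem (fun z : ℤ => z.natAbs ^ 2) hx)
      have h4 : x.natAbs * x.natAbs < R * R := by rw [← pow_two]; omega
      exact Nat.mul_self_lt_mul_self_iff.mp h4
    refine List.mem_flatMap.mpr ⟨x.natAbs, List.mem_range.mpr hlt, ?_⟩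
    rw [if_pos ⟨h1, h2⟩, List.mem_append]
    rcases Int.natAbs_eq x with e' | e'
    · left; rw [← e', if_pos h3]; exact List.mem_singleton.mpr rfl
    · right
      rw [show -((x.natAbs : ℕ) : ℤ) = x from e'.symm, if_pos h3]
      exact List.mem_singleton.mpr rfl
  obtain ⟨l, hl, hlX⟩ := degSols_complete _ (e - 1) 1 1 _ (by omega) hmem (by
    simp only [finalBool, Bool.and_eq_true, decide_eq_true_eq]
    rw [hsum]
    exact ⟨⟨⟨hy1, hy2⟩, hy3⟩, hsq⟩)
  obtain ⟨L, hLl, hLP⟩ := exists_aligned l P hlX.symm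
  subst hLP
  have hy : 1 + l.sum = y := by rw [← hsum, ← hlX, Multiset.sum_coe]
  have hv := hall l hl
  rw [hy, ← hLl] at hv
  have hfin := valBool_sound L _ _ _ hv hP
  simp only [Multiset.map_coe, Multiset.sum_coe] at hw1 hw2 hvsq hform
  set w := 1 + (L.map Prod.snd).sum
  simp only [finalVal, Bool.or_eq_true, Bool.and_eq_true, decide_eq_true_eq, List.all_eq_true] at hfin
  rcases hfin with (h1 | h1) | h1
  · omega
  · exact h1 hw2
  have hCn : C ≤ n := Nat.le_of_dvd hn hC
  have hC0 : 0 < C := Nat.pos_of_dvd_of_pos hC hn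
  obtain ⟨j, rfl⟩ := hq
  have hmemC : q * j ∈ cList n q := by
    refine List.mem_filter.mpr ⟨List.mem_map.mpr ⟨j, List.mem_range.mpr (Nat.lt_succ_of_le
      ((Nat.le_div_iff_mul_le hq0).mpr (by rw [mul_comm]; exact hCn))), mul_comm j q⟩, ?_⟩
    simp only [Bool.and_eq_true, decide_eq_true_eq]
    exact ⟨h2, hC⟩
  have hCC : (0 : ℤ) ≤ ((q * j : ℕ) : ℤ) ^ 2 := sq_nonneg _
  have h := h1 _ hmemC
  rw [hform] at h
  rcases h with (((h' | h') | h') | h') | ⟨hp', h'⟩
  · omega
  · obtain ⟨i, rfl⟩ := hpk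
    exact h' (Int.emod_eq_zero_of_dvd ⟨(i : ℤ), by push_cast; ring⟩)
  · exact absurd h' (not_lt.mpr (mul_nonneg (Int.natCast_nonneg k) hCC))
  · refine absurd h' (not_lt.mpr ?_)
    have hk' := Nat.mul_le_mul_right ((q * j) ^ 2) hk
    rw [pow_two] at hk' ⊢
    exact_mod_cast hk'
  · rcases mul_eq_zero.mp h' with e' | e'
    · have := hpos hp'
      omega
    · exact (pow_ne_zero 2 (Int.natCast_ne_zero.mpr hC0.ne')) e'

end Cfsg.Agent.SmallOrders.BlockDegrees
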