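-- The class formula for an involution and an element of order `p`, through the principal block.
--
-- * `exists_valSol`, `card_ne_of_invBool`, `false_of_invBool'`
import Cfsg.Agent.Lib.SmallOrders.BlockDegrees.BlockData
import Cfsg.Agent.Lib.SmallOrders.BlockDegrees.InvolutionValue
import Cfsg.Agent.Lib.SmallOrders.BlockDegrees.ValueCheck
import Cfsg.Agent.Lib.SmallOrders.BlockDegrees.Equation
import Cfsg.Agent.Lib.Char.ClassMult

set_option autoImplicit false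

open scoped ComplexConjugate

namespace Cfsg.Agent.SmallOrders.BlockDegrees

open Cfsg Cfsg.Agent.Blocks Cfsg.Agent.CyclicDefect

variable {G : Type*} [Group G] [Finite G]

/-- pairs of conjugates of `t` with product in `x K` -/
abbrev Pairs (x t : G) (L : Subgroup G) : Type _ :=
  Σ k : K x L, {q : G × G // IsConj t q.1 ∧ IsConj t q.2 ∧ q.1 * q.2 = x * ((k : L) : G)}

section pairs

variable {p : ℕ} [Fact p.Prime] {x t : G} {L : Subgroup G} (hS : Setting p x L) (ht : t * t = 1)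

include hS ht

theorem conj_eq_inv_of_pair (z : Pairs x t L) : z.2.1.1 * x * z.2.1.1⁻¹ = x⁻¹ := by
  obtain ⟨k, ⟨a, b⟩, ha, hb, hab⟩ := z
  have hinvol : ∀ u : G, IsConj t u → u * u = 1 := fun u hu => by
    obtain ⟨g, rfl⟩ := isConj_iff.mp hu
    rw [show g * t * g⁻¹ * (g * t * g⁻¹) = g * (t * t) * g⁻¹ by group, ht, mul_one, mul_inv_cancel]
  have hab' : a * b = x * ((k : L) : G) := hab
  set g := x * ((k : L) : G) with hg
  have hgi : a * g * a⁻¹ = g⁻¹ := by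
    rw [← hab', ← mul_assoc, hinvol a ha, one_mul, mul_inv_rev, inv_eq_of_mul_eq_one_right (hinvol b hb)]
  obtain ⟨n, hn⟩ : ∃ n : ℤ, g ^ n = x := by
    set r := orderOf ((k : L) : G)
    have hc : Commute x ((k : L) : G) := hS.commute_K k
    have h1 : g ^ r = x ^ r := by rw [hg, hc.mul_pow, pow_orderOf_eq_one, mul_one]
    have hcop : Nat.Coprime r (orderOf x) := by
      rw [hS.hx]; exact (hS.hp.coprime_iff_not_dvd.mpr (hS.regular_K k)).symm
    obtain ⟨m, hm⟩ := exists_pow_eq_self_of_coprime hcop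
    exact ⟨((r * m : ℕ) : ℤ), by rw [zpow_natCast, pow_mul, h1, hm]⟩
  show a * x * a⁻¹ = x⁻¹
  rw [← hn, ← conj_zpow, hgi, inv_zpow]

theorem dvd_card_pairs (hodd : p ≠ 2) : p ∣ Nat.card (Pairs x t L) := by
  classical
  have := Fintype.ofFinite (Pairs x t L)
  have hcl : ∀ u : G, IsConj t u → IsConj t (x * u * x⁻¹) := fun u hu =>
    hu.trans (isConj_iff.mpr ⟨x, rfl⟩)
  let f : Function.End (Pairs x t L) := fun z => ⟨z.1, (x * z.2.1.1 * x⁻¹, x * z.2.1.2 * x⁻¹),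
    hcl _ z.2.2.1, hcl _ z.2.2.2.1, by
      have hc : Commute x ((z.1 : L) : G) := hS.commute_K z.1
      calc x * z.2.1.1 * x⁻¹ * (x * z.2.1.2 * x⁻¹) = x * (z.2.1.1 * z.2.1.2) * x⁻¹ := by group
        _ = x * ((z.1 : L) : G) := by
          rw [z.2.2.2.2, mul_assoc x (x * _), mul_assoc x ((z.1 : L) : G), (hc.symm.inv_right).eq,
            mul_inv_cancel_left]⟩
  have hpow : ∀ n, ∀ z, (f ^ n) z = ⟨z.1, (x ^ n * z.2.1.1 * (x ^ n)⁻¹, x ^ n * z.2.1.2 * (x ^ n)⁻¹),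
      z.2.2.1.trans (isConj_iff.mpr ⟨x ^ n, rfl⟩), z.2.2.2.1.trans (isConj_iff.mpr ⟨x ^ n, rfl⟩), by
        have hc : Commute (x ^ n) (x * ((z.1 : L) : G)) :=
          (Commute.pow_self x n).mul_right ((hS.commute_K z.1).pow_left n)
        calc x ^ n * z.2.1.1 * (x ^ n)⁻¹ * (x ^ n * z.2.1.2 * (x ^ n)⁻¹)
            = x ^ n * (z.2.1.1 * z.2.1.2) * (x ^ n)⁻¹ := by group
          _ = x * ((z.1 : L) : G) := by rw [z.2.2.2.2, hc.eq, mul_inv_cancel_right]⟩ := by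
    intro n
    induction n with
    | zero => intro z; refine Sigma.ext rfl (heq_of_eq (Subtype.ext ?_)); simp; rfl
    | succ n ih =>
      intro z
      rw [pow_succ']
      show f ((f ^ n) z) = _
      rw [ih z]
      refine Sigma.ext rfl (heq_of_eq (Subtype.ext ?_))
      show (_, _) = (_, _)
      simp only [pow_succ', mul_inv_rev, mul_assoc]
  have hf : f ^ p ^ 1 = 1 := by
    funext z
    rw [hpow]
    refine Sigma.ext rfl (heq_of_eq (Subtype.ext ?_))
    show (_, _) = _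
    simp [pow_one, hS.pow_eq_one]
    rfl
  have hmod := Equiv.Perm.card_fixedPoints_modEq hf
  have hempty : IsEmpty (Function.fixedPoints f) := ⟨fun ⟨z, hz⟩ => by
    have e : x * z.2.1.1 * x⁻¹ = z.2.1.1 := by
      have h := congrArg (fun w : Pairs x t L => w.2.1.1) hz
      exact h
    have h2 := conj_eq_inv_of_pair hS ht z
    rw [mul_inv_eq_iff_eq_mul.mpr (mul_inv_eq_iff_eq_mul.mp e).symm] at h2
    have h3 : x ^ 2 = 1 := by rw [pow_two, ← mul_inv_cancel x, ← h2]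
    have h4 := orderOf_dvd_of_pow_eq_one h3
    rw [hS.hx] at h4
    exact hodd ((Nat.prime_dvd_prime_iff_eq hS.hp Nat.prime_two).mp h4)⟩
  rw [Nat.card_eq_fintype_card]
  refine Nat.modEq_zero_iff_dvd.mp (hmod.trans ?_)
  rw [Fintype.card_eq_zero]

theorem card_pairs_le : Nat.card (Pairs x t L) ≤ Nat.card (Subgroup.centralizer ({x} : Set G)) *
    Nat.card (K x L) := by
  rcases isEmpty_or_nonempty (Pairs x t L) with h | ⟨⟨z₀⟩⟩
  · rw [Nat.card_of_isEmpty]; exact Nat.zero_le _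
  rw [← Nat.card_prod]
  refine Nat.card_le_card_of_injective (fun z : Pairs x t L =>
    ((⟨z₀.2.1.1⁻¹ * z.2.1.1, Subgroup.mem_centralizer_singleton_iff.mpr ?_⟩ :
      Subgroup.centralizer ({x} : Set G)), z.1)) ?_
  · have h1 := conj_eq_inv_of_pair hS ht z₀
    have h2 := conj_eq_inv_of_pair hS ht z
    calc z₀.2.1.1⁻¹ * z.2.1.1 * x = z₀.2.1.1⁻¹ * (z.2.1.1 * x * z.2.1.1⁻¹) * z.2.1.1 := by group
      _ = z₀.2.1.1⁻¹ * (z₀.2.1.1 * x * z₀.2.1.1⁻¹) * z.2.1.1 := by rw [h1, h2]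
      _ = x * (z₀.2.1.1⁻¹ * z.2.1.1) := by group
  · intro z z' he
    simp only [Prod.mk.injEq, Subtype.mk.injEq, mul_right_inj] at he
    obtain ⟨k, ⟨a, b⟩, h1, h2, h3⟩ := z
    obtain ⟨k', ⟨a', b'⟩, h1', h2', h3'⟩ := z'
    obtain ⟨ha, rfl⟩ := he
    simp only at ha
    subst ha
    obtain rfl : b = b' := mul_left_cancel (h3.trans h3'.symm)
    rfl

theorem card_pairs_pos (h : ∃ a, IsConj t a ∧ a * x * a⁻¹ = x⁻¹) (hodd : p ≠ 2) :
    0 < Nat.card (Pairs x t L) := by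
  obtain ⟨a, ha, hax⟩ := h
  obtain ⟨g, hg⟩ := isConj_iff.mp ha
  have haa : a * a = 1 := by
    rw [← hg, show g * t * g⁻¹ * (g * t * g⁻¹) = g * (t * t) * g⁻¹ by group, ht, mul_one, mul_inv_cancel]
  obtain ⟨h', hh⟩ := hS.hp.odd_of_ne_two hodd
  set y := x ^ (h' + 1)
  have hyy : y * y = x := by
    rw [← pow_add, show h' + 1 + (h' + 1) = p + 1 by omega, pow_succ, hS.pow_eq_one, one_mul]
  have hay : a * y * a⁻¹ = y⁻¹ := by rw [← conj_pow, hax, inv_pow]
  have hb : a * x = y⁻¹ * a * y := by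
    rw [← hyy, ← hay]; group
  have hne : Nonempty (Pairs x t L) := ⟨⟨1, (a, a * x), ha, ha.trans (isConj_iff.mpr ⟨y⁻¹, by rw [hb, inv_inv]⟩),
    by simp [← mul_assoc, haa]⟩⟩
  exact Nat.card_pos

end pairs

theorem norm_int_lt {v : ℤ} {d : ℕ} (h : ‖(v : ℂ)‖ < (d : ℝ)) : v.natAbs < d := by
  rw [Complex.norm_intCast, ← Int.cast_abs, ← Int.cast_natCast (R := ℝ), Int.cast_lt,
    Int.abs_eq_natAbs] at h
  exact_mod_cast h

variable [IsSimpleGroup G]

theorem exists_valData (hG : ¬ IsMulCommutative G) {p c e lo : ℕ} [Fact p.Prime] (hodd : p ≠ 2)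
    {x : G} (hx : orderOf x = p) (hsq : ¬ p ^ 2 ∣ Nat.card G)
    (hC : Nat.card (Subgroup.centralizer ({x} : Set G)) = p * c)
    (hN : Nat.card (Subgroup.normalizer (Subgroup.zpowers x : Set G)) = p * c * e)
    (hlo : lo ≤ 2 ∨ (1 < c ∧ lo ≤ 2 * p)) {t : G} (hto : orderOf t = 2) :
    ∃ (L : Subgroup G) (A E : Finset (IrrCharacter G)) (σ : IrrCharacter G → ℤ) (ε : ℤ)
      (χe : IrrCharacter G) (u : IrrCharacter G → ℤ),
      Setting p x L ∧ Nat.card (K x L) = c ∧ BlockData p e lo x L A E σ ε ∧ χe ∈ E ∧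
      (∀ χ : IrrCharacter G, (χ : G → ℂ) t = u χ) ∧
      (∀ χ ∈ E, charDegree (χ : G → ℂ) = charDegree (χe : G → ℂ) ∧ u χ = u χe) ∧
      ValSol (Nat.card G) p e ((p - 1) / e) lo c
        (∃ a, IsConj t a ∧ a * x * a⁻¹ = x⁻¹) (Nat.card (Subgroup.centralizer ({t} : Set G)))
        (A.val.map fun χ => (σ χ * (charDegree (χ : G → ℂ) : ℤ), σ χ * u χ))
        (ε * (charDegree (χe : G → ℂ) : ℤ)) ∧
      ((¬ ∃ a, IsConj t a ∧ a * x * a⁻¹ = x⁻¹) →
        (c : ℤ) * ((Nat.card G : ℤ) +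
          ((A.val.map fun χ => (σ χ * (charDegree (χ : G → ℂ) : ℤ), σ χ * u χ)).map
            fun q => q.2 ^ 2 * ((Nat.card G : ℤ) / q.1)).sum -
          (1 + ((A.val.map fun χ => (σ χ * (charDegree (χ : G → ℂ) : ℤ), σ χ * u χ)).map Prod.snd).sum) ^ 2 *
            ((Nat.card G : ℤ) / (ε * (charDegree (χe : G → ℂ) : ℤ)))) = 0) := by
  classical
  have hp : p.Prime := Fact.out
  obtain ⟨L, A, E, σ, ε, hS, hcK, hD⟩ := exists_blockData hG hodd hx hsq hC hN hlo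
  have := Fintype.ofFinite G
  have := Fintype.ofFinite (IrrCharacter G)
  have := Fintype.ofFinite (K x L)
  have htt : t * t = 1 := by rw [← pow_two, ← hto, pow_orderOf_eq_one]
  have ht1 : t ≠ 1 := fun e => by rw [e, orderOf_one] at hto; omega
  have htreg : ¬ p ∣ orderOf t := fun h => by
    rw [hto] at h
    exact hodd ((Nat.prime_dvd_prime_iff_eq hp Nat.prime_two).mp h)
  have h1reg : ¬ p ∣ orderOf (1 : G) := by simpa using hp.ne_one
  choose u hu hu4 using fun χ : IrrCharacter G =>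
    exists_int_mod_four hG (Char.IsIrrCharacter.isCharacter χ.2) htt
  set d : IrrCharacter G → ℕ := fun χ => charDegree (χ : G → ℂ) with hd
  obtain ⟨χe, hχe⟩ := hD.nonempty
  set y : ℤ := ε * (d χe : ℤ) with hy
  set w : ℤ := ε * u χe with hw
  set P : Multiset (ℤ × ℤ) := A.val.map fun χ => (σ χ * (d χ : ℤ), σ χ * u χ) with hP
  have hεε : ε * ε = 1 := by rcases hD.signE with h | h <;> simp [h]
  have hεC : (ε : ℂ) * ε = 1 := by exact_mod_cast hεε
  have hσσ : ∀ χ ∈ A, σ χ * σ χ = 1 := fun χ hχ => by rcases hD.sign χ hχ with h | h <;> simp [h]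
  have hεabs : ∀ z : ℤ, (ε * z).natAbs = z.natAbs := fun z => by rcases hD.signE with h | h <;> simp [h]
  have hσabs : ∀ χ ∈ A, ∀ z : ℤ, (σ χ * z).natAbs = z.natAbs := fun χ hχ z => by
    rcases hD.sign χ hχ with h | h <;> simp [h]
  have hdC : ∀ χ : IrrCharacter G, (χ : G → ℂ) 1 = (d χ : ℂ) := fun χ => (charDegree_cast χ).symm
  have hEd : ∀ χ ∈ E, d χ = d χe ∧ u χ = u χe := by
    intro χ hχ
    have e1 := (hD.rel 1 h1reg χ hχ).trans (hD.rel 1 h1reg χe hχe).symm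
    have e2 := (hD.rel t htreg χ hχ).trans (hD.rel t htreg χe hχe).symm
    have e1' := mul_left_cancel₀ (left_ne_zero_of_mul_eq_one hεC) e1
    have e2' := mul_left_cancel₀ (left_ne_zero_of_mul_eq_one hεC) e2
    rw [hdC, hdC] at e1'
    rw [hu, hu] at e2'
    exact ⟨by exact_mod_cast e1', by exact_mod_cast e2'⟩
  have hfst : P.map Prod.fst = A.val.map fun χ => σ χ * (d χ : ℤ) := by rw [hP, Multiset.map_map]; rfl
  have hsnd : (P.map Prod.snd).sum = ∑ χ ∈ A, σ χ * u χ := by rw [hP, Multiset.map_map]; rfl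
  have hy' : 1 + (P.map Prod.fst).sum = y := by
    have h := hD.rel 1 h1reg χe hχe
    simp only [hdC] at h
    apply Int.cast_injective (α := ℂ)
    rw [hfst, Finset.sum_map_val, hy]
    push_cast
    exact h.symm
  have hw' : 1 + (P.map Prod.snd).sum = w := by
    have h := hD.rel t htreg χe hχe
    simp only [hu] at h
    apply Int.cast_injective (α := ℂ)
    rw [hsnd, hw]
    push_cast
    exact h.symm
  have hlt : ∀ χ : IrrCharacter G, χ ≠ oneChar G → (u χ).natAbs < d χ := fun χ hne => norm_int_lt (by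
    rw [← hu χ]
    exact norm_lt_of_ne_one hG χ.2 (fun e => hne (Subtype.ext e)) ht1)
  have hAne : ∀ χ ∈ A, χ ≠ oneChar G := fun χ hχ e' => hD.one_notA (e' ▸ hχ)
  have hdvd : ∀ χ : IrrCharacter G, d χ ∣ Nat.card G := fun χ => charDegree_dvd_card χ
  set S := insert (oneChar G) (A ∪ E) with hSdef
  have hone_not : oneChar G ∉ A ∪ E := fun h =>
    (Finset.mem_union.mp h).elim hD.one_notA hD.one_notE
  have hd1 : d (oneChar G) = 1 := by simp [hd, charDegree, oneChar]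
  have hu1 : u (oneChar G) = 1 := by
    have h := hu (oneChar G)
    rw [show (oneChar G : G → ℂ) t = 1 from rfl] at h
    exact_mod_cast h.symm
  have hsumS : ∀ f : IrrCharacter G → ℕ,
      f (oneChar G) + (∑ χ ∈ A, f χ + ∑ χ ∈ E, f χ) ≤ ∑ χ, f χ := fun f => by
    rw [← Finset.sum_union hD.disj, ← Finset.sum_insert hone_not]
    exact Finset.sum_le_univ_sum_of_nonneg fun _ => Nat.zero_le _
  have hform : (c : ℤ) * ((Nat.card G : ℤ) + (P.map fun q => q.2 ^ 2 * ((Nat.card G : ℤ) / q.1)).sum -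
      (1 + (P.map Prod.snd).sum) ^ 2 * ((Nat.card G : ℤ) / y)) =
        (Nat.card (Pairs x t L) : ℤ) * (Nat.card (Subgroup.centralizer ({t} : Set G)) : ℤ) ^ 2 := by
    -- the class formula
    set m := Nat.card {g : G // IsConj t g}
    set C := Nat.card (Subgroup.centralizer ({t} : Set G))
    have hmC : (m : ℂ) * (C : ℂ) = (Nat.card G : ℂ) := by
      exact_mod_cast Char.card_conjugates_mul_card_centralizer t
    have hg0 : (Nat.card G : ℂ) ≠ 0 := Nat.cast_ne_zero.mpr Nat.card_pos.ne'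
    have hpairs : (Nat.card (Pairs x t L) : ℂ) = (m : ℂ) * (m : ℂ) / (Nat.card G : ℂ) *
        ∑ χ : IrrCharacter G, (χ : G → ℂ) t * (χ : G → ℂ) t *
          conj (∑ k : K x L, (χ : G → ℂ) (x * ((k : L) : G))) / (χ : G → ℂ) 1 := by
      rw [Nat.card_sigma, Nat.cast_sum]
      simp_rw [Char.class_mult_formula]
      rw [← Finset.mul_sum, Finset.sum_comm]
      congr 1
      refine Finset.sum_congr rfl fun χ _ => ?_
      rw [map_sum, Finset.mul_sum, Finset.sum_div]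
    have hsum : ∑ χ : IrrCharacter G, (χ : G → ℂ) t * (χ : G → ℂ) t *
          conj (∑ k : K x L, (χ : G → ℂ) (x * ((k : L) : G))) / (χ : G → ℂ) 1 =
        (c : ℂ) * (1 + (∑ χ ∈ A, ((σ χ * u χ : ℤ) : ℂ) ^ 2 / ((σ χ * (d χ : ℤ) : ℤ) : ℂ)) -
          (w : ℂ) ^ 2 / (y : ℂ)) := by
      rw [← Finset.sum_subset (Finset.subset_univ S) fun χ _ hχ => by
        simp only [hSdef, Finset.mem_insert, Finset.mem_union, not_or] at hχ
        rw [hD.other χ hχ.1 hχ.2.1 hχ.2.2, map_zero, mul_zero, zero_div],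
        hSdef, Finset.sum_insert hone_not, Finset.sum_union hD.disj]
      have e1 : ∀ χ ∈ A, (χ : G → ℂ) t * (χ : G → ℂ) t *
          conj (∑ k : K x L, (χ : G → ℂ) (x * ((k : L) : G))) / (χ : G → ℂ) 1 =
          (c : ℂ) * (((σ χ * u χ : ℤ) : ℂ) ^ 2 / ((σ χ * (d χ : ℤ) : ℤ) : ℂ)) := fun χ hχ => by
        rw [Finset.sum_congr rfl fun k _ => hD.valA χ hχ k, Finset.sum_const, Finset.card_univ,
          ← Nat.card_eq_fintype_card, hcK, nsmul_eq_mul, map_mul, map_natCast, map_intCast, hu χ, hdC χ]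
        rcases hD.sign χ hχ with h | h <;> rw [h] <;> push_cast <;> ring
      have e2 : ∑ χ ∈ E, (χ : G → ℂ) t * (χ : G → ℂ) t *
          conj (∑ k : K x L, (χ : G → ℂ) (x * ((k : L) : G))) / (χ : G → ℂ) 1 =
          -((c : ℂ) * ((w : ℂ) ^ 2 / (y : ℂ))) := by
        have e4 : ∀ χ ∈ E, (χ : G → ℂ) t * (χ : G → ℂ) t *
            conj (∑ k : K x L, (χ : G → ℂ) (x * ((k : L) : G))) / (χ : G → ℂ) 1 =
            (u χe : ℂ) * (u χe : ℂ) / (d χe : ℂ) *
              conj (∑ k : K x L, (χ : G → ℂ) (x * ((k : L) : G))) := fun χ hχ => by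
          rw [hu χ, hdC χ, (hEd χ hχ).1, (hEd χ hχ).2, mul_div_right_comm]
        rw [Finset.sum_congr rfl e4, ← Finset.mul_sum, ← map_sum, Finset.sum_comm, Finset.sum_congr rfl fun k _ => hD.valE k,
          Finset.sum_const, Finset.card_univ, ← Nat.card_eq_fintype_card, hcK, nsmul_eq_mul, map_mul,
          map_natCast, map_neg, map_intCast, hw, hy]
        rcases hD.signE with h | h <;> rw [h] <;> push_cast <;> ring
      rw [Finset.sum_congr rfl e1, ← Finset.mul_sum, e2]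
      have e0 : ∀ k : K x L, (oneChar G : G → ℂ) (x * ((k : L) : G)) = 1 := fun _ => rfl
      rw [Finset.sum_congr rfl fun k _ => e0 k, Finset.sum_const, Finset.card_univ,
        ← Nat.card_eq_fintype_card, hcK, show (oneChar G : G → ℂ) t = 1 from rfl,
        show (oneChar G : G → ℂ) 1 = 1 from rfl, nsmul_eq_mul, mul_one (c : ℂ), map_natCast]
      ring
    apply Int.cast_injective (α := ℂ)
    rw [hw', hP, Multiset.map_map]
    have h3 : (A.val.map ((fun q : ℤ × ℤ => q.2 ^ 2 * ((Nat.card G : ℤ) / q.1)) ∘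
        fun χ => (σ χ * (d χ : ℤ), σ χ * u χ))).sum =
        ∑ χ ∈ A, (σ χ * u χ) ^ 2 * ((Nat.card G : ℤ) / (σ χ * (d χ : ℤ))) := rfl
    rw [h3]
    have hdiv : ∀ z : ℤ, z.natAbs ∣ Nat.card G →
        (((Nat.card G : ℤ) / z : ℤ) : ℂ) = (Nat.card G : ℂ) / (z : ℂ) := fun z hz => by
      have h0 : (z : ℂ) ≠ 0 := Int.cast_ne_zero.mpr fun e' => by
        rw [e'] at hz; exact Nat.card_pos.ne' (Nat.eq_zero_of_zero_dvd hz)
      rw [Int.cast_div (Int.natAbs_dvd.mp (Int.natCast_dvd_natCast.mpr hz)) h0, Int.cast_natCast]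
    push_cast
    rw [hdiv y (by rw [hy, hεabs, Int.natAbs_natCast]; exact hdvd χe),
      Finset.sum_congr rfl fun χ hχ => by
        rw [hdiv (σ χ * (d χ : ℤ)) (by rw [hσabs χ hχ, Int.natAbs_natCast]; exact hdvd χ)],
      hpairs, hsum]
    have hC0 : (C : ℂ) ≠ 0 := Nat.cast_ne_zero.mpr Nat.card_pos.ne'
    have hm : (m : ℂ) = (Nat.card G : ℂ) / (C : ℂ) := eq_div_of_mul_eq hC0 hmC
    have e3 : ∑ χ ∈ A, ((σ χ : ℂ) * (u χ : ℂ)) ^ 2 * ((Nat.card G : ℂ) / ((σ χ * (d χ : ℤ) : ℤ) : ℂ)) =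
        (Nat.card G : ℂ) *
          ∑ χ ∈ A, ((σ χ * u χ : ℤ) : ℂ) ^ 2 / ((σ χ * (d χ : ℤ) : ℤ) : ℂ) := by
      rw [Finset.mul_sum]
      exact Finset.sum_congr rfl fun χ _ => by push_cast; ring
    rw [e3, hm]
    field_simp
  have hzero : (¬ ∃ a, IsConj t a ∧ a * x * a⁻¹ = x⁻¹) →
      (c : ℤ) * ((Nat.card G : ℤ) + (P.map fun q => q.2 ^ 2 * ((Nat.card G : ℤ) / q.1)).sum -
        (1 + (P.map Prod.snd).sum) ^ 2 * ((Nat.card G : ℤ) / y)) = 0 := fun hno => by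
    have : IsEmpty (Pairs x t L) := ⟨fun z => hno ⟨_, z.2.2.1, conj_eq_inv_of_pair hS htt z⟩⟩
    rw [hform, Nat.card_of_isEmpty, Nat.cast_zero, zero_mul]
  suffices hval : ValSol (Nat.card G) p e ((p - 1) / e) lo c (∃ a, IsConj t a ∧ a * x * a⁻¹ = x⁻¹)
      (Nat.card (Subgroup.centralizer ({t} : Set G))) P y from
    ⟨L, A, E, σ, ε, χe, u, hS, hcK, hD, hχe, hu, hEd, hval, hzero⟩
  refine ⟨⟨?_, ?_, ?_, ?_, ?_, hy', ?_⟩, ?_, ?_, ?_, ?_, Nat.card (Pairs x t L),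
    dvd_card_pairs hS htt hodd, ?_, fun h => card_pairs_pos hS htt h hodd, hform⟩
  · rw [Multiset.card_map, hP, Multiset.card_map, ← Finset.card_def, hD.cardA]
  · intro z hz
    rw [hfst] at hz
    obtain ⟨χ, hχ, rfl⟩ := Multiset.mem_map.mp hz
    rw [hσabs χ hχ, Int.natAbs_natCast]
    exact ⟨hdvd χ, hD.degA χ hχ⟩
  · rw [hy, hεabs, Int.natAbs_natCast]; exact hdvd χe
  · rw [hy, hεabs, Int.natAbs_natCast]; exact (hD.degE χe hχe).1
  · exact (hD.degE χe hχe).2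
  · have h1 : ∑ χ : IrrCharacter G, d χ ^ 2 = Nat.card G := by
      apply Nat.cast_injective (R := ℂ)
      rw [← Char.sum_sq_degrees (G := G)]
      push_cast
      exact Finset.sum_congr rfl fun χ _ => by rw [hdC]
    have h2 := hsumS fun χ => d χ ^ 2
    have h5 : ∑ χ ∈ E, d χ ^ 2 = (p - 1) / e * d χe ^ 2 := by
      rw [← hD.cardE, ← smul_eq_mul, ← Finset.sum_const]
      exact Finset.sum_congr rfl fun χ hχ => by rw [(hEd χ hχ).1]
    rw [h1, hd1, one_pow, h5] at h2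
    rw [hy, hεabs, Int.natAbs_natCast, hfst, Multiset.map_map]
    have h3 : (A.val.map ((fun z : ℤ => z.natAbs ^ 2) ∘ fun χ => σ χ * (d χ : ℤ))).sum =
        ∑ χ ∈ A, d χ ^ 2 :=
      Finset.sum_congr rfl fun χ hχ => by rw [Function.comp_apply, hσabs χ hχ, Int.natAbs_natCast]
    rw [h3]
    omega
  · intro q hq
    obtain ⟨χ, hχ, rfl⟩ := Multiset.mem_map.mp hq
    refine ⟨by
      show (σ χ * u χ).natAbs < (σ χ * (d χ : ℤ)).natAbs
      rw [hσabs χ hχ, hσabs χ hχ, Int.natAbs_natCast]; exact hlt χ (hAne χ hχ), ?_⟩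
    have h4 := hu4 χ
    show (σ χ * (d χ : ℤ) - σ χ * u χ) % 4 = 0
    rcases hD.sign χ hχ with h | h <;> rw [h] <;> simp only [hd] at h4 ⊢ <;> omega
  · rw [hw', hw, hy, hεabs, hεabs, Int.natAbs_natCast]
    exact hlt χe fun e' => hD.one_notE (e' ▸ hχe)
  · rw [hw', hw, hy]
    have h4 := hu4 χe
    rcases hD.signE with h | h <;> rw [h] <;> simp only [hd] at h4 ⊢ <;> omega
  · have h1 : ∑ χ : IrrCharacter G, (u χ).natAbs ^ 2 = Nat.card (Subgroup.centralizer ({t} : Set G)) := by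
      apply Nat.cast_injective (R := ℂ)
      have h := Char.column_orth (G := G) t t
      rw [if_pos (IsConj.refl t)] at h
      rw [← h, Nat.cast_sum]
      refine Finset.sum_congr rfl fun χ _ => ?_
      rw [hu χ, map_intCast, ← Int.cast_natCast, ← Int.cast_mul, Nat.cast_pow, Int.natAbs_sq, pow_two]
    have h2 := hsumS fun χ => (u χ).natAbs ^ 2
    have h5 : ∑ χ ∈ E, (u χ).natAbs ^ 2 = (p - 1) / e * (u χe).natAbs ^ 2 := by
      rw [← hD.cardE, ← smul_eq_mul, ← Finset.sum_const]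
      exact Finset.sum_congr rfl fun χ hχ => by rw [(hEd χ hχ).2]
    rw [h1, hu1, Int.natAbs_one, one_pow, h5] at h2
    rw [hw', hw, hεabs, hP, Multiset.map_map]
    have h3 : (A.val.map ((fun q : ℤ × ℤ => q.2.natAbs ^ 2) ∘
        fun χ => (σ χ * (d χ : ℤ), σ χ * u χ))).sum = ∑ χ ∈ A, (u χ).natAbs ^ 2 :=
      Finset.sum_congr rfl fun χ hχ => by rw [Function.comp_apply, hσabs χ hχ]
    rw [h3]
    omega
  · refine (card_pairs_le hS htt).trans_eq ?_
    rw [hC, hcK]; ring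

theorem exists_valSol (hG : ¬ IsMulCommutative G) {p c e lo : ℕ} [Fact p.Prime] (hodd : p ≠ 2)
    {x : G} (hx : orderOf x = p) (hsq : ¬ p ^ 2 ∣ Nat.card G)
    (hC : Nat.card (Subgroup.centralizer ({x} : Set G)) = p * c)
    (hN : Nat.card (Subgroup.normalizer (Subgroup.zpowers x : Set G)) = p * c * e)
    (hlo : lo ≤ 2 ∨ (1 < c ∧ lo ≤ 2 * p)) {t : G} (hto : orderOf t = 2) :
    ∃ (P : Multiset (ℤ × ℤ)) (y : ℤ), ValSol (Nat.card G) p e ((p - 1) / e) lo c
      (∃ a, IsConj t a ∧ a * x * a⁻¹ = x⁻¹) (Nat.card (Subgroup.centralizer ({t} : Set G))) P y := by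
  obtain ⟨L, A, E, σ, ε, χe, u, -, -, -, -, -, -, h, -⟩ := exists_valData hG hodd hx hsq hC hN hlo hto
  exact ⟨_, _, h⟩

/-- no involution has `q ∣ |C(t)|` (or, with `pos`, inverts `x`) -/
theorem false_of_invBool' (hG : ¬ IsMulCommutative G) {n p e c lo q R : ℕ} {pos : Bool} [Fact p.Prime]
    (hn : Nat.card G = n) (hodd : p ≠ 2) {x : G} (hx : orderOf x = p) (hsq : ¬ p ^ 2 ∣ n)
    (hC : Nat.card (Subgroup.centralizer ({x} : Set G)) = p * c)
    (hN : Nat.card (Subgroup.normalizer (Subgroup.zpowers x : Set G)) = p * c * e)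
    (hlo : lo ≤ 2 ∨ (1 < c ∧ lo ≤ 2 * p)) (h : invBool n p e c lo q pos R = true)
    {t : G} (ht : orderOf t = 2) (hq : q ∣ Nat.card (Subgroup.centralizer ({t} : Set G)))
    (hpos : pos = true → ∃ a, IsConj t a ∧ a * x * a⁻¹ = x⁻¹) : False := by
  obtain ⟨P, y, hdeg, h1, h2, h3, h4, k, hk1, hk2, hk3, hk4⟩ :=
    exists_valSol hG hodd hx (hn ▸ hsq) hC hN hlo ht
  rw [hn] at hdeg hk4
  refine false_of_invBool h (hn ▸ Nat.card_pos)
    (⟨hdeg, h1, h2, h3, h4, k, hk1, hk2, fun hp => hk3 (hpos hp), hk4⟩ :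
      ValSol n p e ((p - 1) / e) lo c (pos = true) _ P y)
    ?_ hq (hn ▸ Subgroup.card_subgroup_dvd_card _)
  rw [← ht]
  exact Subgroup.orderOf_dvd_natCard _ (Subgroup.mem_centralizer_singleton_iff.mpr rfl)

/-- an involution inverts `x` when `|C(x)|` is odd and `|N : C|` even -/
theorem exists_inverting {p c e : ℕ} [Fact p.Prime] {x : G} (hx : orderOf x = p)
    (hc : ¬ 2 ∣ p * c) (he : 2 ∣ e)
    (hC : Nat.card (Subgroup.centralizer ({x} : Set G)) = p * c)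
    (hN : Nat.card (Subgroup.normalizer (Subgroup.zpowers x : Set G)) = p * c * e) :
    ∃ t : G, orderOf t = 2 ∧ t * x * t⁻¹ = x⁻¹ := by
  have hp : p.Prime := Fact.out
  obtain ⟨t, ht⟩ := exists_prime_orderOf_dvd_card' (G := Subgroup.normalizer (Subgroup.zpowers x : Set G))
    2 (by rw [hN]; exact dvd_mul_of_dvd_right he _)
  have hto : orderOf (t : G) = 2 := by rw [Subgroup.orderOf_coe, ht]
  refine ⟨t, hto, ?_⟩
  obtain ⟨i, hi⟩ := Subgroup.mem_zpowers_iff.mp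
    ((Subgroup.mem_normalizer_iff.mp t.2 x).mp (Subgroup.mem_zpowers x))
  have htt : (t : G) * t = 1 := by rw [← pow_two, ← hto, pow_orderOf_eq_one]
  have hii : x ^ (i * i - 1) = 1 := by
    rw [zpow_sub_one, zpow_mul, hi, conj_zpow, hi,
      show (t : G) * ((t : G) * x * (t : G)⁻¹) * (t : G)⁻¹ = ((t : G) * t) * x * ((t : G) * t)⁻¹ by group,
      htt]
    group
  have hd : (p : ℤ) ∣ (i - 1) * (i + 1) := by
    rw [← hx, show (i - 1) * (i + 1) = i * i - 1 by ring]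
    exact orderOf_dvd_iff_zpow_eq_one.mpr hii
  rcases (Nat.prime_iff_prime_int.mp hp).dvd_or_dvd hd with h | h
  · exfalso
    rw [← hx, orderOf_dvd_iff_zpow_eq_one, zpow_sub_one, mul_inv_eq_one, hi] at h
    refine hc (hC ▸ hto ▸ Subgroup.orderOf_dvd_natCard _ (Subgroup.mem_centralizer_singleton_iff.mpr ?_))
    exact mul_inv_eq_iff_eq_mul.mp h
  · rw [← hx, orderOf_dvd_iff_zpow_eq_one, zpow_add_one, hi, mul_eq_one_iff_eq_inv] at h
    exact h

end Cfsg.Agent.SmallOrders.BlockDegrees
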