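-- No simple groups of order 4320, 4620, 5040 or 5460.
--
-- * `card_ne_4320`, `card_ne_4620`, `card_ne_5040`, `card_ne_5460`
import Cfsg.Agent.Lib.SmallOrders.BlockDegrees.ValueFormula
import Cfsg.Agent.Lib.SmallOrders.BlockDegrees.Criterion
import Cfsg.Agent.Lib.SmallOrders.TwentyOne.Final

set_option autoImplicit false

namespace Cfsg.Agent.SmallOrders.BlockDegrees

open Subgroup

variable {G : Type*} [Group G] [Finite G] [IsSimpleGroup G]

theorem card_ne_4320 : Nat.card G ≠ 4320 := by
  intro h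
  have hG : ¬ IsMulCommutative G := not_isMulCommutative_of_card (by rw [h]; norm_num)
  have : Fact (Nat.Prime 5) := ⟨by norm_num⟩
  obtain ⟨x, j, hmem, hx, hN, hC⟩ :=
    mem_of_blockBool hG h 5 66 [(216, 4)] (by decide +kernel)
  simp only [List.mem_singleton, Prod.mk.injEq] at hmem
  obtain ⟨hd, rfl⟩ := hmem
  rw [hd] at hN
  have hN' : Nat.card (normalizer (zpowers x : Set G)) = 5 * 1 * 4 := by omega
  have hC' : Nat.card (centralizer ({x} : Set G)) = 5 * 1 := by omega
  obtain ⟨t, ht, htx⟩ := exists_inverting hx (by norm_num) (by norm_num) hC' hN'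
  exact false_of_invBool' (q := 1) (pos := true) (R := 66) hG h (by norm_num) hx (by norm_num) hC' hN'
    (Or.inl le_rfl) (by decide +kernel) ht (one_dvd _) fun _ => ⟨t, IsConj.refl t, htx⟩

theorem card_ne_4620 : Nat.card G ≠ 4620 := by
  intro h
  have hG : ¬ IsMulCommutative G := not_isMulCommutative_of_card (by rw [h]; norm_num)
  have : Fact (Nat.Prime 7) := ⟨by norm_num⟩
  obtain ⟨x, j, hmem, hx, hN, hC⟩ :=
    mem_of_blockBool hG h 7 68 [(330, 2)] (by decide +kernel)
  simp only [List.mem_singleton, Prod.mk.injEq] at hmem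
  obtain ⟨hd, rfl⟩ := hmem
  rw [hd] at hN
  obtain ⟨t, ht⟩ := exists_prime_orderOf_dvd_card' (G := G) 2 (hp := ⟨Nat.prime_two⟩)
    (by rw [h]; norm_num)
  exact false_of_invBool' (c := 1) (e := 2) (q := 1) (pos := false) (R := 68) hG h (by norm_num) hx
    (by norm_num) (by omega) (by omega) (Or.inl le_rfl) (by decide +kernel) ht (one_dvd _) (by simp)

theorem card_ne_5460 : Nat.card G ≠ 5460 := by
  intro h
  have hG : ¬ IsMulCommutative G := not_isMulCommutative_of_card (by rw [h]; norm_num)
  have : Fact (Nat.Prime 13) := ⟨by norm_num⟩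
  obtain ⟨x, j, hmem, hx, hN, hC⟩ :=
    mem_of_blockBool hG h 13 74 [(105, 4)] (by decide +kernel)
  simp only [List.mem_singleton, Prod.mk.injEq] at hmem
  obtain ⟨hd, rfl⟩ := hmem
  rw [hd] at hN
  obtain ⟨t, ht⟩ := exists_prime_orderOf_dvd_card' (G := G) 2 (hp := ⟨Nat.prime_two⟩)
    (by rw [h]; norm_num)
  exact false_of_invBool' (c := 1) (e := 4) (q := 1) (pos := false) (R := 74) hG h (by norm_num) hx
    (by norm_num) (by omega) (by omega) (Or.inl le_rfl) (by decide +kernel) ht (one_dvd _) (by simp)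

theorem exists_commuting_involution {x : G} (h : 2 ∣ Nat.card (centralizer ({x} : Set G))) :
    ∃ t : G, orderOf t = 2 ∧ orderOf x ∣ Nat.card (centralizer ({t} : Set G)) := by
  obtain ⟨t, ht⟩ := exists_prime_orderOf_dvd_card' (G := centralizer ({x} : Set G)) 2
    (hp := ⟨Nat.prime_two⟩) h
  refine ⟨(t : G), by rw [orderOf_coe, ht], orderOf_dvd_natCard _ ?_⟩
  exact mem_centralizer_singleton_iff.mpr (mem_centralizer_singleton_iff.mp t.2).symm

theorem card_ne_5040 : Nat.card G ≠ 5040 := by
  intro h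
  have hG : ¬ IsMulCommutative G := not_isMulCommutative_of_card (by rw [h]; norm_num)
  have : Fact (Nat.Prime 7) := ⟨by norm_num⟩
  have : Fact (Nat.Prime 5) := ⟨by norm_num⟩
  obtain ⟨x, j, hmem, hx, hN, hC⟩ :=
    mem_of_blockBool hG h 7 71 [(36, 2), (120, 2), (120, 6)] (by decide +kernel)
  simp only [List.mem_cons, Prod.mk.injEq, List.not_mem_nil, or_false] at hmem
  have h120 : Nat.card (Sylow 7 G) = 120 := by
    rcases hmem with ⟨hd, rfl⟩ | ⟨hd, -⟩ | ⟨hd, -⟩
    · rw [hd] at hN
      obtain ⟨t, ht, h7⟩ := exists_commuting_involution (x := x) (by omega)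
      exact absurd (false_of_invBool' (c := 10) (e := 2) (lo := 14) (q := 7) (pos := false) (R := 71) hG h
        (by norm_num) hx (by norm_num) (by omega) (by omega) (Or.inr ⟨by norm_num, le_rfl⟩)
        (by decide +kernel) ht (hx ▸ h7) (by simp)) id
    · exact hd
    · exact hd
  obtain ⟨y, i, hmem5, hy, hN5, hC5⟩ :=
    mem_of_blockBool hG h 5 71 [(21, 4), (36, 4), (126, 4)] (by decide +kernel)
  simp only [List.mem_cons, Prod.mk.injEq, List.not_mem_nil, or_false] at hmem5
  rcases hmem5 with ⟨hd, rfl⟩ | ⟨hd, rfl⟩ | ⟨hd, rfl⟩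
  · exact TwentyOne.card_sylow_five_ne _ G rfl hd
  · rw [hd] at hN5
    obtain ⟨z, hz⟩ := exists_prime_orderOf_dvd_card' (G := centralizer ({y} : Set G)) 7 (by omega)
    have hzo : orderOf (z : G) = 7 := by rw [orderOf_coe, hz]
    have hP : ∀ P : Sylow 7 G, Nat.card (P : Subgroup G) = 7 := fun P => by
      rw [card_sylow_subgroup (p := 7) (e := 1) (m := 720) (by rw [h]; norm_num) (by norm_num) P, pow_one]
    obtain ⟨P, hP'⟩ := exists_sylow_eq_zpowers hP hzo
    have hNz := card_normalizer_mul_card_sylow P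
    rw [hP', h120, h] at hNz
    have hyN : y ∈ normalizer (zpowers (z : G) : Set G) := by
      refine centralizer_le_normalizer _ ?_
      rw [centralizer_zpowers]
      exact mem_centralizer_singleton_iff.mpr (mem_centralizer_singleton_iff.mp z.2).symm
    have h5 := orderOf_dvd_natCard _ hyN
    rw [hy, show Nat.card (normalizer (zpowers (z : G) : Set G)) = 42 by omega] at h5
    norm_num at h5
  · rw [hd] at hN5
    obtain ⟨t, ht, h5⟩ := exists_commuting_involution (x := y) (by omega)
    exact false_of_invBool' (c := 2) (e := 4) (lo := 10) (q := 5) (pos := false) (R := 71) hG h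
      (by norm_num) hy (by norm_num) (by omega) (by omega) (Or.inr ⟨by norm_num, le_rfl⟩)
      (by decide +kernel) ht (hy ▸ h5) (by simp)

end Cfsg.Agent.SmallOrders.BlockDegrees
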